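import Cfsg.Agent.PermutationGroups.HalfTransGalois
import Mathlib
import Cfsg.Agent.Lib.Zsigmondy
import Cfsg.Agent.Solvable.HallAux
import Cfsg.Agent.S0003
set_option linter.all false

-- part: H501/SolvTrans
section
/-!
# Solvable linear groups transitive on the nonzero vectors in which `-1` is not a commutator

Variants of `PermutationGroups.HalfTransSpecial`, `HalfTransLinear`, `HalfTransGalois` without the
hypothesis that the group has odd order.
-/

set_option autoImplicit false

namespace Cfsg.Agent.H501.SolvTrans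

/-- The special section over a maximal abelian normal subgroup `A`, when no involution of `A` is a
commutator. -/
theorem exists_special {H : Type*} [Group H] [Finite H] (hsol : Group.IsSolvable H)
    (A : Subgroup H) [hAn : A.Normal]
    (hinv : ∀ c ∈ A, c ≠ 1 → c ^ 2 = 1 → ∀ x y : H, x * y * x⁻¹ * y⁻¹ ≠ c)
    (hAc : ∀ a ∈ A, ∀ b ∈ A, a * b = b * a)
    (hAmax : ∀ B : Subgroup H, B.Normal → (∀ a ∈ B, ∀ b ∈ B, a * b = b * a) → A ≤ B → B = A)
    (hcyc : IsCyclic A) (hC : ¬ Subgroup.centralizer (A : Set H) ≤ A) :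
    ∃ (r : ℕ) (X : Subgroup H), r.Prime ∧ r ≠ 2 ∧ X.Normal ∧ (∀ x ∈ X, x ^ r = 1) ∧
      (∀ x ∈ X, ∀ a ∈ A, x * a = a * x) ∧ (∀ x ∈ X, ∀ y ∈ X, x * y * x⁻¹ * y⁻¹ ∈ A) ∧
      (∃ x ∈ X, x ∉ A) ∧ (∀ x ∈ X, x ∉ A → ∃ y ∈ X, x * y ≠ y * x) := by
  classical
  set Q := H ⧸ A with hQ
  set π : H →* Q := QuotientGroup.mk' A with hπ
  have hπs : Function.Surjective π := QuotientGroup.mk'_surjective A
  have hπk : ∀ x : H, π x = 1 ↔ x ∈ A := fun x => QuotientGroup.eq_one_iff x
  have hQs : Group.IsSolvable Q := inferInstance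
  set K : Subgroup Q := (Subgroup.centralizer (A : Set H)).map π with hK
  have hKn : K.Normal := Subgroup.Normal.map inferInstance π hπs
  have hKb : K ≠ ⊥ := by
    intro hb
    apply hC
    intro x hx
    rw [← hπk]
    have : π x ∈ K := Subgroup.mem_map_of_mem π hx
    rwa [hb, Subgroup.mem_bot] at this
  -- a minimal normal subgroup of the quotient inside `K`
  obtain ⟨B', ⟨hB'n, hB'K, hB'b⟩, hB'min⟩ : ∃ B' : Subgroup Q,
      (B'.Normal ∧ B' ≤ K ∧ B' ≠ ⊥) ∧ ∀ B'' : Subgroup Q, B''.Normal → B'' ≠ ⊥ → B'' ≤ B' →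
        B'' = B' := by
    have hfin : ({B' : Subgroup Q | B'.Normal ∧ B' ≤ K ∧ B' ≠ ⊥}).Finite := Set.toFinite _
    obtain ⟨B', hB'⟩ := hfin.exists_minimal ⟨K, hKn, le_rfl, hKb⟩
    refine ⟨B', hB'.1, fun B'' h1 h2 h3 => ?_⟩
    exact le_antisymm h3 (hB'.2 ⟨h1, h3.trans hB'.1.2.1, h2⟩ h3)
  have hB'c : ∀ x ∈ B', ∀ y ∈ B', x * y = y * x := by
    have h1 : ⁅B', B'⁆ < B' := Group.IsSolvable.commutator_lt_of_ne_bot hB'b
    have h2 : ⁅B', B'⁆ = ⊥ := by
      by_contra h3
      have h4 : ⁅B', B'⁆.Normal := inferInstance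
      exact h1.ne (hB'min _ h4 h3 h1.le)
    intro x hx y hy
    have h3 := Subgroup.commutator_mem_commutator hx hy
    rw [h2, Subgroup.mem_bot] at h3
    exact commutatorElement_eq_one_iff_mul_comm.mp h3
  obtain ⟨r, hr, hrB⟩ := Nat.exists_prime_and_dvd (n := Nat.card B')
    (fun h => hB'b (Subgroup.card_eq_one.mp h))
  have hrFact : Fact r.Prime := ⟨hr⟩
  have hB'r : ∀ x ∈ B', x ^ r = 1 := by
    let D : Subgroup Q :=
      { carrier := {x | x ∈ B' ∧ x ^ r = 1}
        one_mem' := ⟨B'.one_mem, one_pow r⟩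
        mul_mem' := by
          rintro x y ⟨hx, hxr⟩ ⟨hy, hyr⟩
          refine ⟨B'.mul_mem hx hy, ?_⟩
          have : Commute x y := hB'c x hx y hy
          rw [this.mul_pow, hxr, hyr, one_mul]
        inv_mem' := by
          rintro x ⟨hx, hxr⟩
          exact ⟨B'.inv_mem hx, by rw [inv_pow, hxr, inv_one]⟩ }
    have hDn : D.Normal := ⟨by
      rintro x ⟨hx, hxr⟩ g
      exact ⟨hB'n.conj_mem x hx g, by rw [conj_pow, hxr]; simp⟩⟩
    have hDb : D ≠ ⊥ := by
      intro hb
      obtain ⟨z, hz⟩ := exists_prime_orderOf_dvd_card' r hrB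
      have h1 : (z : Q) ∈ D := by
        refine ⟨z.2, ?_⟩
        have := pow_orderOf_eq_one z
        rw [hz] at this
        exact congrArg Subtype.val this
      rw [hb, Subgroup.mem_bot] at h1
      have h2 : z = 1 := Subtype.ext h1
      rw [h2, orderOf_one] at hz
      exact hr.one_lt.ne hz
    have hDB : D = B' := hB'min D hDn hDb (fun x hx => hx.1)
    intro x hx
    rw [← hDB] at hx
    exact hx.2
  -- pull back
  set B : Subgroup H := B'.comap π with hB
  have hBn : B.Normal := hB'n.comap π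
  have hAB : A ≤ B := by
    intro a ha
    rw [hB, Subgroup.mem_comap, (hπk a).mpr ha]
    exact B'.one_mem
  have hBA : B ≠ A := by
    intro h
    apply hB'b
    rw [eq_bot_iff]
    intro x hx
    obtain ⟨y, rfl⟩ := hπs x
    have : y ∈ B := hx
    rw [h] at this
    rw [Subgroup.mem_bot, hπk]
    exact this
  have hBC : ∀ x ∈ B, ∀ a ∈ A, x * a = a * x := by
    intro x hx a ha
    obtain ⟨c, hc, hcx⟩ := Subgroup.mem_map.mp (hB'K hx)
    have h1 : c⁻¹ * x ∈ A := by
      rw [← hπk, map_mul, map_inv, hcx]; simp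
    have h2 : c * a = a * c := ((Subgroup.mem_centralizer_iff.mp hc) a ha).symm
    have h3 := hAc _ h1 a ha
    calc x * a = c * (c⁻¹ * x * a) := by group
      _ = c * (a * (c⁻¹ * x)) := by rw [h3]
      _ = (c * a) * (c⁻¹ * x) := by simp only [mul_assoc]
      _ = a * x := by rw [h2]; group
  have hBr : ∀ x ∈ B, x ^ r ∈ A := by
    intro x hx
    rw [← hπk, map_pow]
    exact hB'r _ hx
  have hBcomm : ∀ x ∈ B, ∀ y ∈ B, x * y * x⁻¹ * y⁻¹ ∈ A := by
    intro x hx y hy
    rw [← hπk]
    simp only [map_mul, map_inv]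
    rw [hB'c _ hx _ hy]; simp
  have hBcr : ∀ x ∈ B, ∀ y ∈ B, (x * y * x⁻¹ * y⁻¹) ^ r = 1 := by
    intro x hx y hy
    set c := x * y * x⁻¹ * y⁻¹ with hc
    have hcA : c ∈ A := hBcomm x hx y hy
    have h1 : x * y = c * (y * x) := by rw [hc]; group
    have h2 : c * y = y * c := (hBC y hy c hcA).symm
    have h3 := PermutationGroups.HalfTransSpecial.pow_mul_of h1 h2 r
    have h4 : x * y ^ r = y ^ r * x := hBC x hx _ (hBr y hy)
    rw [h4] at h3
    exact (mul_eq_right.mp h3.symm)
  have hBnc : ¬ (∀ a ∈ B, ∀ b ∈ B, a * b = b * a) := fun h => hBA (hAmax B hBn h hAB)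
  have hr2 : r ≠ 2 := by
    rintro rfl
    apply hBnc
    intro a ha b hb
    by_contra hab
    refine hinv _ (hBcomm a ha b hb) ?_ (hBcr a ha b hb) a b rfl
    intro h
    rw [mul_inv_eq_one, mul_inv_eq_iff_eq_mul] at h
    exact hab h
  have hrodd : Odd r := hr.odd_of_ne_two hr2
  have hBmul : ∀ x ∈ B, ∀ y ∈ B, (x * y) ^ r = x ^ r * y ^ r := by
    intro x hx y hy
    set c := x * y * x⁻¹ * y⁻¹ with hc
    have hcA : c ∈ A := hBcomm x hx y hy
    have h1 : x * y = c * (y * x) := by rw [hc]; group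
    have h2 : c * y = y * c := (hBC y hy c hcA).symm
    have h2' : c * x = x * c := (hBC x hx c hcA).symm
    have h3 := PermutationGroups.HalfTransSpecial.mul_pow_of h1 h2' h2 r
    have h4 : c ^ (r * (r - 1) / 2) = 1 := by
      obtain ⟨k, hk⟩ := hrodd
      have : r * (r - 1) / 2 = r * k := by
        rw [hk]; simp only [Nat.add_sub_cancel]
        rw [show (2 * k + 1) * (2 * k) = 2 * ((2 * k + 1) * k) by ring]
        exact Nat.mul_div_cancel_left _ (by norm_num)
      rw [this, pow_mul, hc, hBcr x hx y hy, one_pow]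
    rw [h4, one_mul] at h3
    exact h3.symm
  let X : Subgroup H :=
    { carrier := {x | x ∈ B ∧ x ^ r = 1}
      one_mem' := ⟨B.one_mem, one_pow r⟩
      mul_mem' := by
        rintro x y ⟨hx, hxr⟩ ⟨hy, hyr⟩
        refine ⟨B.mul_mem hx hy, ?_⟩
        rw [hBmul x hx y hy, hxr, hyr, one_mul]
      inv_mem' := by
        rintro x ⟨hx, hxr⟩
        exact ⟨B.inv_mem hx, by rw [inv_pow, hxr, inv_one]⟩ }
  have hXn : X.Normal := ⟨by
    rintro x ⟨hx, hxr⟩ g
    exact ⟨hBn.conj_mem x hx g, by rw [conj_pow, hxr]; simp⟩⟩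
  refine ⟨r, X, hr, hr2, hXn, fun x hx => hx.2, fun x hx => hBC x hx.1,
    fun x hx y hy => hBcomm x hx.1 y hy.1, ?_, ?_⟩
  · by_contra hcon
    push Not at hcon
    apply hBnc
    let f : B →* A :=
      { toFun := fun x => ⟨(x : H) ^ r, hBr x x.2⟩
        map_one' := Subtype.ext (one_pow r)
        map_mul' := fun x y => Subtype.ext (hBmul x x.2 y y.2) }
    have hker : f.ker ≤ Subgroup.center B := by
      intro x hx
      rw [MonoidHom.mem_ker] at hx
      have h1 : (x : H) ^ r = 1 := congrArg Subtype.val hx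
      have h2 : (x : H) ∈ A := hcon x ⟨x.2, h1⟩
      rw [Subgroup.mem_center_iff]
      intro g
      exact Subtype.ext (hBC g g.2 x h2)
    intro a ha b hb
    have := (MonoidHom.isMulCommutative_of_isCyclic_of_ker_le_center f hker).is_comm.comm
      ⟨a, ha⟩ ⟨b, hb⟩
    exact congrArg Subtype.val this
  · intro x hx hxA
    by_contra hcon
    push Not at hcon
    -- the subgroup of central elements of `X` times `A`
    let Z : Subgroup H :=
      { carrier := {z | z ∈ X ∧ ∀ y ∈ X, z * y = y * z}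
        one_mem' := ⟨X.one_mem, fun y _ => by simp⟩
        mul_mem' := by
          rintro a b ⟨ha, ha'⟩ ⟨hb, hb'⟩
          refine ⟨X.mul_mem ha hb, fun y hy => ?_⟩
          rw [mul_assoc, hb' y hy, ← mul_assoc, ha' y hy, mul_assoc]
        inv_mem' := by
          rintro a ⟨ha, ha'⟩
          refine ⟨X.inv_mem ha, fun y hy => ?_⟩
          rw [inv_mul_eq_iff_eq_mul, ← mul_assoc, ha' y hy, mul_assoc, mul_inv_cancel, mul_one] }
    have hZn : Z.Normal := ⟨by
      rintro z ⟨hz, hz'⟩ g
      refine ⟨hXn.conj_mem z hz g, fun y hy => ?_⟩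
      have h1 := hz' (g⁻¹ * y * g) (by simpa using hXn.conj_mem y hy g⁻¹)
      calc g * z * g⁻¹ * y = g * (z * (g⁻¹ * y * g)) * g⁻¹ := by group
        _ = g * ((g⁻¹ * y * g) * z) * g⁻¹ := by rw [h1]
        _ = y * (g * z * g⁻¹) := by group⟩
    have hZA : (Z ⊔ A) = A := by
      apply hAmax _ (Subgroup.sup_normal Z A) _ le_sup_right
      intro a ha b hb
      obtain ⟨z1, hz1, a1, ha1, rfl⟩ := Subgroup.mem_sup_of_normal_right.mp ha
      obtain ⟨z2, hz2, a2, ha2, rfl⟩ := Subgroup.mem_sup_of_normal_right.mp hb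
      have e1 : a1 * z2 = z2 * a1 := (hBC z2 hz2.1.1 a1 ha1).symm
      have e2 : a2 * z1 = z1 * a2 := (hBC z1 hz1.1.1 a2 ha2).symm
      calc z1 * a1 * (z2 * a2) = z1 * (a1 * z2) * a2 := by simp only [mul_assoc]
        _ = (z1 * z2) * (a1 * a2) := by rw [e1]; simp only [mul_assoc]
        _ = (z2 * z1) * (a2 * a1) := by rw [hz1.2 z2 hz2.1, hAc a1 ha1 a2 ha2]
        _ = z2 * (z1 * a2) * a1 := by simp only [mul_assoc]
        _ = z2 * a2 * (z1 * a1) := by rw [← e2]; simp only [mul_assoc]
    apply hxA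
    rw [← hZA]
    exact Subgroup.mem_sup_left ⟨hx, hcon⟩


open Cfsg.Agent.PermutationGroups.HalfTransField
open Cfsg.Agent.PermutationGroups.HalfTransCount
open Cfsg.Agent.PermutationGroups.HalfTransLinear

variable {V : Type*} [AddCommGroup V] [Finite V] {H : Type*} [Group H] [Finite H]
  [DistribMulAction H V]

theorem exists_field (p : ℕ) [hpF : Fact p.Prime] (hpV : ∀ v : V, p • v = 0) [Nontrivial V]
    [FaithfulSMul H V] (hsol : Group.IsSolvable H)
    (hneg : p ≠ 2 → ∀ x y : H, ¬ ∀ v : V, (x * y * x⁻¹ * y⁻¹) • v = -v)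
    (hT0 : ∀ v w : V, v ≠ 0 → w ≠ 0 → ∃ h : H, h • v = w) :
    ∃ E : Subring (AddMonoid.End V), (∀ x ∈ E, ∀ y ∈ E, x * y = y * x) ∧
      (∀ h : H, ∀ x ∈ E, (tau h : AddMonoid.End V) * x * tau h⁻¹ ∈ E) ∧
      (∀ v : V, v ≠ 0 → ∀ w : V, ∃ x ∈ E, x v = w) ∧
      (∀ x ∈ E, ∀ v : V, v ≠ 0 → x v = 0 → x = 0) := by
  classical
  have hT : ∀ v w : V, v ≠ 0 → w ≠ 0 → ∃ h : H, h • v = w ∨ h • v = -w := by
    intro v w hv hw
    obtain ⟨h, hh⟩ := hT0 v w hv hw
    exact ⟨h, Or.inl hh⟩
  have hfinE : Finite (AddMonoid.End V) := finite_end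
  -- a maximal abelian normal subgroup
  obtain ⟨A, ⟨hAn, hAc⟩, hAmax⟩ : ∃ A : Subgroup H,
      (A.Normal ∧ ∀ a ∈ A, ∀ b ∈ A, a * b = b * a) ∧
      ∀ B : Subgroup H, B.Normal → (∀ a ∈ B, ∀ b ∈ B, a * b = b * a) → A ≤ B → B = A := by
    have hfin : ({A : Subgroup H | A.Normal ∧ ∀ a ∈ A, ∀ b ∈ A, a * b = b * a}).Finite :=
      Set.toFinite _
    obtain ⟨A, hA⟩ := hfin.exists_maximal ⟨⊥, inferInstance, by
      intro a ha b hb
      rw [Subgroup.mem_bot] at ha hb
      rw [ha, hb]⟩
    refine ⟨A, hA.1, fun B h1 h2 h3 => le_antisymm (hA.2 ⟨h1, h2⟩ h3) h3⟩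
  set E : Subring (AddMonoid.End V) := ringOf A with hE
  have hEc : ∀ x ∈ E, ∀ y ∈ E, x * y = y * x := ringOf_comm A hAc
  have hEn : ∀ h : H, ∀ x ∈ E, (tau h : AddMonoid.End V) * x * tau h⁻¹ ∈ E := ringOf_conj A hAn
  have hEd : ∀ x ∈ E, ∀ v : V, v ≠ 0 → x v = 0 → x = 0 := fun x hx v hv hxv =>
    eq_zero_of_apply_eq_zero E hT hEc hEn hx hv hxv
  refine ⟨E, hEc, hEn, ?_, hEd⟩
  obtain ⟨v0, hv0⟩ := exists_ne (0 : V)
  -- field structure
  have hEfin : Finite E := inferInstance
  have hEnt : Nontrivial E := ⟨⟨0, 1, fun h => by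
    have h1 : (0 : AddMonoid.End V) = 1 := congrArg Subtype.val h
    apply hv0
    have h2 : (0 : AddMonoid.End V) v0 = (1 : AddMonoid.End V) v0 := by rw [h1]
    exact h2.symm⟩⟩
  let : CommRing E := { (inferInstance : Ring E) with
    mul_comm := fun x y => Subtype.ext (hEc x.1 x.2 y.1 y.2) }
  have hEdom : IsDomain E := by
    have : NoZeroDivisors E := ⟨by
      intro x y hxy
      by_contra hcon
      push Not at hcon
      obtain ⟨hx, hy⟩ := hcon
      have hyv : y.1 v0 ≠ 0 := fun h => hy (Subtype.ext (hEd y.1 y.2 v0 hv0 h))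
      apply hx
      apply Subtype.ext
      apply hEd x.1 x.2 _ hyv
      have h1 : x.1 * y.1 = 0 := congrArg Subtype.val hxy
      have h2 : (x.1 * y.1) v0 = (0 : AddMonoid.End V) v0 := by rw [h1]
      exact h2⟩
    exact NoZeroDivisors.to_isDomain E
  have hEfield : IsField E := Finite.isField_of_domain E
  let : Field E := hEfield.toField
  have hEp : CharP E p := by
    rw [CharP.charP_iff_prime_eq_zero hpF.out]
    apply Subtype.ext
    apply hEd _ (p : E).2 v0 hv0
    have : ((p : E) : AddMonoid.End V) = (p : AddMonoid.End V) := by push_cast; rfl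
    rw [this]
    have h2 : (p : AddMonoid.End V) v0 = p • v0 := rfl
    rw [h2, hpV]
  -- `A` embeds into `E`
  have htauinj : Function.Injective (fun h : H => (tau h : AddMonoid.End V)) := by
    intro g h hgh
    apply (‹FaithfulSMul H V›).eq_of_smul_eq_smul (α := V)
    intro v
    exact DFunLike.congr_fun hgh v
  let fA : A →* E :=
    { toFun := fun a => ⟨tau a.1, tau_mem_ringOf A a.2⟩
      map_one' := Subtype.ext (tau_one)
      map_mul' := fun a b => Subtype.ext (tau_mul a.1 b.1) }
  have hfA : Function.Injective fA := by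
    intro a b hab
    exact Subtype.ext (htauinj (congrArg Subtype.val hab))
  have hAcyc : IsCyclic A := isCyclic_of_injective_ringHom fA hfA
  have hAfree : ∀ a ∈ A, a ≠ 1 → ∀ v : V, a • v = v → v = 0 := by
    intro a ha ha1 v hav
    by_contra hv
    apply ha1
    apply htauinj
    change (tau a : AddMonoid.End V) = tau 1
    rw [tau_one, ← sub_eq_zero]
    apply hEd _ (E.sub_mem (tau_mem_ringOf A ha) E.one_mem) v hv
    change a • v - v = 0
    rw [hav, sub_self]
  have hinv : ∀ c ∈ A, c ≠ 1 → c ^ 2 = 1 → ∀ x y : H, x * y * x⁻¹ * y⁻¹ ≠ c := by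
    intro c hc hc1 hc2 x y hxy
    have h1 : fA ⟨c, hc⟩ ^ 2 = 1 := by
      rw [← map_pow, show (⟨c, hc⟩ : A) ^ 2 = 1 from Subtype.ext hc2, map_one]
    have h1' : (fA ⟨c, hc⟩ - 1) * (fA ⟨c, hc⟩ + 1) = 0 := by
      linear_combination h1
    rcases mul_eq_zero.mp h1' with h2 | h2
    · rw [sub_eq_zero] at h2
      apply hc1
      have h3 : fA ⟨c, hc⟩ = fA 1 := by rw [h2, map_one]
      exact congrArg Subtype.val (hfA h3)
    · replace h2 := eq_neg_of_add_eq_zero_left h2
      by_cases hp2 : p = 2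
      · subst hp2
        apply hc1
        have h3 : fA ⟨c, hc⟩ = fA 1 := by
          rw [h2, map_one]
          have h4 : ((2 : ℕ) : E) = 0 := CharP.cast_eq_zero E 2
          push_cast at h4
          linear_combination -h4
        exact congrArg Subtype.val (hfA h3)
      · apply hneg hp2 x y
        intro v
        rw [hxy]
        have h3 : (tau c : AddMonoid.End V) = -1 := congrArg Subtype.val h2
        have h4 := DFunLike.congr_fun h3 v
        exact h4
  -- self-centralising
  have hC : Subgroup.centralizer (A : Set H) ≤ A := by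
    by_contra hC
    obtain ⟨r, X, hr, hr2, hXn, hXr, hXA, hXc, hne, hcen⟩ :=
      exists_special hsol A hinv hAc hAmax hAcyc hC
    refine PermutationGroups.HalfTransNoSpecial.no_special hT A X hAc hAfree hAcyc hXn hr hr2 ?_ hXr hXA hXc hne hcen
    intro v hv
    by_contra hv0'
    -- then `r = p`, and an element of order `r` of `A` would be unipotent
    have hrp : r = p := by
      by_contra hrp
      have hcop : Nat.Coprime r p := (Nat.coprime_primes hr hpF.out).mpr hrp
      have h1 : (Nat.gcd r p) • v = 0 := by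
        have h2 : ((Nat.gcd r p : ℕ) : ℤ) • v = 0 := by
          rw [Nat.gcd_eq_gcd_ab, add_smul, mul_comm, mul_smul, mul_comm, mul_smul]
          rw [natCast_zsmul, natCast_zsmul, hv, hpV]; simp
        rwa [natCast_zsmul] at h2
      rw [hcop, one_smul] at h1
      exact hv0' h1
    obtain ⟨x, hx, hxA⟩ := hne
    obtain ⟨y, hy, hxy⟩ := hcen x hx hxA
    have hcA := hXc x hx y hy
    have hcr : (x * y * x⁻¹ * y⁻¹) ^ r = 1 :=
      hXr _ (X.mul_mem (X.mul_mem (X.mul_mem hx hy) (X.inv_mem hx)) (X.inv_mem hy))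
    have hc1 : x * y * x⁻¹ * y⁻¹ ≠ 1 := by
      intro h
      rw [mul_inv_eq_one, mul_inv_eq_iff_eq_mul] at h
      exact hxy h
    set c : A := ⟨x * y * x⁻¹ * y⁻¹, hcA⟩ with hc
    have h3 : fA c ^ p = 1 := by
      rw [← map_pow, show c ^ p = 1 from Subtype.ext (hrp ▸ hcr), map_one]
    have h4 : (fA c - 1) ^ p = 0 := by
      rw [sub_pow_char, h3, one_pow, sub_self]
    have h5 : fA c - 1 = 0 := pow_eq_zero_iff (hpF.out.ne_zero) |>.mp h4
    have h6 : fA c = fA 1 := by rw [map_one]; exact sub_eq_zero.mp h5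
    exact hc1 (congrArg Subtype.val (hfA h6))
  -- the bound for `H`
  obtain ⟨d, hd, haut⟩ := card_ringAut_le p E
  let c : H →* RingAut E := conjAut E hEn
  have hker : c.ker ≤ A := by
    intro h hh
    apply hC
    rw [Subgroup.mem_centralizer_iff]
    intro a ha
    rw [MonoidHom.mem_ker] at hh
    have h1 : c h (fA ⟨a, ha⟩) = fA ⟨a, ha⟩ := by rw [hh]; rfl
    have h2 : (tau h : AddMonoid.End V) * tau a * tau h⁻¹ = tau a := congrArg Subtype.val h1
    rw [← tau_mul, ← tau_mul] at h2
    have h3 := htauinj h2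
    rw [mul_inv_eq_iff_eq_mul] at h3
    exact h3.symm
  have hHcard : Nat.card H ≤ d * Nat.card A := by
    have hfa : Finite (RingAut E) :=
      Finite.of_injective (fun f : RingAut E => (f : E → E)) DFunLike.coe_injective
    rw [← Subgroup.card_mul_index c.ker, Subgroup.index_ker, mul_comm]
    apply Nat.mul_le_mul
    · exact (Subgroup.card_le_card_group c.range).trans haut
    · exact Nat.card_le_card_of_injective (Subgroup.inclusion hker) (Subgroup.inclusion_injective hker)
  have hAcard : Nat.card A + 1 ≤ Nat.card E := by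
    have hfA0 : ∀ a : A, fA a ≠ 0 := by
      intro a h
      have h2 : fA a * fA a⁻¹ = 1 := by rw [← map_mul, mul_inv_cancel, map_one]
      rw [h, zero_mul] at h2
      exact zero_ne_one h2
    let f : Option A → E := fun o => match o with
      | none => 0
      | some a => fA a
    have hf : Function.Injective f := by
      intro o o' hoo
      rcases o with _ | a <;> rcases o' with _ | b
      · rfl
      · exact absurd hoo.symm (hfA0 b)
      · exact absurd hoo (hfA0 a)
      · exact congrArg some (hfA hoo)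
    have := Nat.card_le_card_of_injective f hf
    rwa [Finite.card_option] at this
  have hVcard : Nat.card V ≤ 2 * Nat.card H + 1 := by
    let f : Option (H × Bool) → V := fun o => match o with
      | none => 0
      | some (h, true) => h • v0
      | some (h, false) => -(h • v0)
    have hf : Function.Surjective f := by
      intro w
      by_cases hw : w = 0
      · exact ⟨none, hw.symm⟩
      · obtain ⟨h, hh | hh⟩ := hT v0 w hv0 hw
        · exact ⟨some (h, true), hh⟩
        · refine ⟨some (h, false), ?_⟩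
          change -(h • v0) = w
          rw [hh, neg_neg]
    have := Nat.card_le_card_of_surjective f hf
    rw [Finite.card_option, Nat.card_prod] at this
    simpa [mul_comm] using this
  have hVE : ∃ m : ℕ, Nat.card V = Nat.card E ^ m := by
    let : Module E V :=
      { smul := fun x v => x.1 v
        one_smul := fun v => rfl
        mul_smul := fun x y v => rfl
        smul_zero := fun x => map_zero x.1
        smul_add := fun x v w => map_add x.1 v w
        add_smul := fun x y v => rfl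
        zero_smul := fun v => rfl }
    have : Module.Finite E V := inferInstance
    exact ⟨_, Module.natCard_eq_pow_finrank (K := E) (V := V)⟩
  obtain ⟨m, hm⟩ := hVE
  have hm1 : m = 1 := by
    have hE2 : 2 ≤ Nat.card E := Finite.one_lt_card
    have hV2 : 2 ≤ Nat.card V := Finite.one_lt_card
    rcases Nat.lt_or_ge m 2 with h | h
    · interval_cases m
      · rw [hm, pow_zero] at hV2; omega
      · rfl
    · exfalso
      have h1 : Nat.card E ^ 2 ≤ Nat.card V := by
        rw [hm]; exact Nat.pow_le_pow_right (by omega) h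
      have h2 : 2 * d ≤ Nat.card E := by
        rw [hd]
        have h3 : 2 ^ d ≤ p ^ d := Nat.pow_le_pow_left hpF.out.two_le d
        have h4 : ∀ n : ℕ, 1 ≤ n → 2 * n ≤ 2 ^ n := by
          intro n hn
          induction n, hn using Nat.le_induction with
          | base => norm_num
          | succ n hn ih => rw [pow_succ]; omega
        rcases Nat.eq_zero_or_pos d with h5 | h5
        · rw [h5]; positivity
        · exact (h4 d h5).trans h3
      obtain ⟨e, he⟩ : ∃ e, Nat.card E = e + 1 := ⟨Nat.card E - 1, by omega⟩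
      rw [he] at hAcard h1 h2 hE2
      have h6 : Nat.card A ≤ e := by omega
      have h7 : d * Nat.card A ≤ d * e := Nat.mul_le_mul_left _ h6
      have h8 : 2 * (d * e) ≤ (e + 1) * e := by nlinarith
      have h9 : (e + 1) ^ 2 ≤ (e + 1) * e + 1 := by
        calc (e + 1) ^ 2 ≤ Nat.card V := h1
          _ ≤ 2 * Nat.card H + 1 := hVcard
          _ ≤ 2 * (d * Nat.card A) + 1 := by omega
          _ ≤ (e + 1) * e + 1 := by omega
      nlinarith
  rw [hm1, pow_one] at hm
  intro v hv w
  have hinj : Function.Injective (fun x : E => x.1 v) := by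
    intro x y hxy
    apply Subtype.ext
    rw [← sub_eq_zero]
    apply hEd _ (E.sub_mem x.2 y.2) v hv
    change x.1 v - y.1 v = 0
    exact sub_eq_zero.mpr hxy
  have hbij := (Nat.bijective_iff_injective_and_card (fun x : E => x.1 v)).mpr ⟨hinj, hm.symm⟩
  obtain ⟨x, hx⟩ := hbij.2 w
  exact ⟨x.1, x.2, hx⟩

/-- A solvable group acting on `V`, transitive on the nonzero vectors, in which `-1` is not a
commutator (`p` odd), is a group of semilinear maps of a one-dimensional space over a finite field. -/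
theorem exists_galois (p : ℕ) [hpF : Fact p.Prime] (hpV : ∀ v : V, p • v = 0) [Nontrivial V]
    [FaithfulSMul H V] (hsol : Group.IsSolvable H)
    (hneg : p ≠ 2 → ∀ x y : H, ¬ ∀ v : V, (x * y * x⁻¹ * y⁻¹) • v = -v)
    (hT : ∀ v w : V, v ≠ 0 → w ≠ 0 → ∃ h : H, h • v = w) :
    ∃ (f : ℕ) (θ : V ≃+ GaloisField p f), Nat.card V = p ^ f ∧
      ∀ h : H, ∃ (c : (GaloisField p f)ˣ) (φ : GaloisField p f ≃+* GaloisField p f),
        ∀ v : V, θ (h • v) = c * φ (θ v) := by
  classical
  obtain ⟨E, hEc, hEn, hEt, hEd⟩ := exists_field p hpV hsol hneg hT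
  have hfinE : Finite (AddMonoid.End V) := finite_end
  obtain ⟨v0, hv0⟩ := exists_ne (0 : V)
  -- field structure
  have hEfin : Finite E := inferInstance
  have hEnt : Nontrivial E := ⟨⟨0, 1, fun h => by
    have h1 : (0 : AddMonoid.End V) = 1 := congrArg Subtype.val h
    apply hv0
    have h2 : (0 : AddMonoid.End V) v0 = (1 : AddMonoid.End V) v0 := by rw [h1]
    exact h2.symm⟩⟩
  let : CommRing E := { (inferInstance : Ring E) with
    mul_comm := fun x y => Subtype.ext (hEc x.1 x.2 y.1 y.2) }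
  have hEdom : IsDomain E := by
    have : NoZeroDivisors E := ⟨by
      intro x y hxy
      by_contra hcon
      push Not at hcon
      obtain ⟨hx, hy⟩ := hcon
      have hyv : y.1 v0 ≠ 0 := fun h => hy (Subtype.ext (hEd y.1 y.2 v0 hv0 h))
      apply hx
      apply Subtype.ext
      apply hEd x.1 x.2 _ hyv
      have h1 : x.1 * y.1 = 0 := congrArg Subtype.val hxy
      have h2 : (x.1 * y.1) v0 = (0 : AddMonoid.End V) v0 := by rw [h1]
      exact h2⟩
    exact NoZeroDivisors.to_isDomain E
  have hEfield : IsField E := Finite.isField_of_domain E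
  let : Field E := hEfield.toField
  have hEp : CharP E p := by
    rw [CharP.charP_iff_prime_eq_zero hpF.out]
    apply Subtype.ext
    apply hEd _ (p : E).2 v0 hv0
    have : ((p : E) : AddMonoid.End V) = (p : AddMonoid.End V) := by push_cast; rfl
    rw [this]
    have h2 : (p : AddMonoid.End V) v0 = p • v0 := rfl
    rw [h2, hpV]
  obtain ⟨f, hf, -⟩ := card_ringAut_le p E
  have hf0 : f ≠ 0 := by
    rintro rfl
    rw [pow_zero] at hf
    have : 1 < Nat.card E := Finite.one_lt_card
    omega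
  -- evaluation at `v0`
  have hinj : Function.Injective (fun x : E => x.1 v0) := by
    intro x y hxy
    apply Subtype.ext
    rw [← sub_eq_zero]
    apply hEd _ (E.sub_mem x.2 y.2) v0 hv0
    change x.1 v0 - y.1 v0 = 0
    exact sub_eq_zero.mpr hxy
  have hsurj : Function.Surjective (fun x : E => x.1 v0) := by
    intro w
    obtain ⟨x, hx, hxw⟩ := hEt v0 hv0 w
    exact ⟨⟨x, hx⟩, hxw⟩
  let ev : E ≃+ V := AddEquiv.mk' (Equiv.ofBijective (fun x : E => x.1 v0) ⟨hinj, hsurj⟩)
    (fun x y => rfl)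
  have hev : ∀ x : E, ev x = x.1 v0 := fun x => rfl
  have hcard : Nat.card V = p ^ f := by rw [← hf]; exact (Nat.card_congr ev.toEquiv).symm
  have hfE : Fintype E := Fintype.ofFinite E
  have hfG : Fintype (GaloisField p f) := Fintype.ofFinite _
  let ι : E ≃+* GaloisField p f := FiniteField.ringEquivOfCardEq (by
    rw [← Nat.card_eq_fintype_card, ← Nat.card_eq_fintype_card, hf, GaloisField.card p f hf0])
  refine ⟨f, ev.symm.trans ι.toAddEquiv, hcard, ?_⟩
  intro h
  -- the multiplier
  set c : E := ev.symm (h • v0) with hc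
  have hcv : c.1 v0 = h • v0 := ev.apply_symm_apply (h • v0)
  have hc0 : c ≠ 0 := by
    intro h0
    rw [h0] at hcv
    have h1 : h • v0 = 0 := hcv.symm
    apply hv0
    have := congrArg (fun t => h⁻¹ • t) h1
    simpa using this
  refine ⟨Units.mk0 (ι c) (by simpa using hc0), (ι.symm.trans (conjAut E hEn h)).trans ι, ?_⟩
  intro v
  obtain ⟨x, rfl⟩ := ev.surjective v
  have h1 : ev.symm (h • ev x) = c * conjAut E hEn h x := by
    rw [AddEquiv.symm_apply_eq, hev, hev]
    have h2 : c * conjAut E hEn h x = conjAut E hEn h x * c := mul_comm _ _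
    rw [h2]
    change h • x.1 v0 = (conjAut E hEn h x).1 (c.1 v0)
    rw [hcv, conjAut_apply]
    change _ = h • (x.1 (h⁻¹ • (h • v0)))
    rw [inv_smul_smul]
  change ι (ev.symm (h • ev x)) = ι c * ι (conjAut E hEn h (ι.symm (ι (ev.symm (ev x)))))
  rw [h1, map_mul, AddEquiv.symm_apply_apply, RingEquiv.symm_apply_apply]


end Cfsg.Agent.H501.SolvTrans
end

-- part: PermutationGroups/KantorCoord
section
/-!
Coordinates: a commutative ring `E` of additive endomorphisms of a finite group `V` that is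
transitive on the non-zero vectors makes `V` a one-dimensional space over a field; a group
normalising `E` acts by semilinear maps.
-/

set_option autoImplicit false

namespace Cfsg.Agent.PermutationGroups.KantorCoord

theorem coord {V : Type*} [AddCommGroup V] [Finite V] {p f : ℕ} [Fact p.Prime] (hf : f ≠ 0)
    (hcard : Nat.card V = p ^ f) (E : Subring (AddMonoid.End V))
    (hcomm : ∀ a ∈ E, ∀ b ∈ E, a * b = b * a)
    (hE : ∀ v w : V, v ≠ 0 → ∃ a ∈ E, a v = w) {H : Type*} [Group H] [DistribMulAction H V]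
    (hnorm : ∀ h : H, ∀ a ∈ E, DistribMulAction.toAddMonoidEnd H V h * a *
      DistribMulAction.toAddMonoidEnd H V h⁻¹ ∈ E) :
    ∃ ε : V ≃+ GaloisField p f, ∀ h : H, ∃ (a : (GaloisField p f)ˣ)
      (φ : GaloisField p f ≃+* GaloisField p f), ∀ v, ε (h • v) = a * φ (ε v) := by
  classical
  have hp : p.Prime := Fact.out
  have hnt : Nontrivial V := by
    rw [← Finite.one_lt_card_iff_nontrivial, hcard]
    exact Nat.one_lt_pow hf hp.one_lt
  obtain ⟨v₀, hv₀⟩ := exists_ne (0 : V)
  have hinj : ∀ a ∈ E, ∀ b ∈ E, a v₀ = b v₀ → a = b := by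
    intro a ha b hb hab
    ext w
    obtain ⟨c, hc, rfl⟩ := hE v₀ w hv₀
    have h1 : a (c v₀) = c (a v₀) := DFunLike.congr_fun (hcomm a ha c hc) v₀
    have h2 : b (c v₀) = c (b v₀) := DFunLike.congr_fun (hcomm b hb c hc) v₀
    rw [h1, h2, hab]
  have hfield : IsField E := by
    refine ⟨⟨0, 1, ?_⟩, ?_, ?_⟩
    · intro h
      have h1 : (0 : AddMonoid.End V) = 1 := congrArg Subtype.val h
      exact hv₀ (DFunLike.congr_fun h1 v₀).symm
    · intro a b
      exact Subtype.ext (hcomm a a.2 b b.2)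
    · intro a ha
      have h1 : a.1 v₀ ≠ 0 := by
        intro h
        apply ha
        apply Subtype.ext
        exact hinj _ a.2 _ E.zero_mem (by rw [h]; rfl)
      obtain ⟨b, hb, hbv⟩ := hE (a.1 v₀) v₀ h1
      refine ⟨⟨b, hb⟩, Subtype.ext ?_⟩
      change a.1 * b = 1
      rw [hcomm _ a.2 _ hb]
      exact hinj _ (E.mul_mem hb a.2) _ E.one_mem hbv
  let _ : CommRing E := { (inferInstance : Ring E) with
    mul_comm := fun a b => Subtype.ext (hcomm a a.2 b b.2) }
  let _ : Field E := IsField.toField hfield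
  -- evaluation at `v₀`
  let ev : E →+ V := { toFun := fun a => a.1 v₀, map_zero' := rfl, map_add' := fun a b => rfl }
  have hev : Function.Bijective ev := by
    refine ⟨fun a b hab => Subtype.ext (hinj _ a.2 _ b.2 hab), fun w => ?_⟩
    obtain ⟨c, hc, rfl⟩ := hE v₀ w hv₀
    exact ⟨⟨c, hc⟩, rfl⟩
  let evE : E ≃+ V := AddEquiv.ofBijective ev hev
  have : Finite E := Finite.of_equiv V evE.symm.toEquiv
  have hcardE : Nat.card E = p ^ f := by
    rw [← hcard]; exact Nat.card_congr evE.toEquiv
  let _ : Fintype E := Fintype.ofFinite E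
  let _ : Fintype (GaloisField p f) := Fintype.ofFinite _
  let θ : E ≃+* GaloisField p f := FiniteField.ringEquivOfCardEq (by
    rw [← Nat.card_eq_fintype_card, ← Nat.card_eq_fintype_card, hcardE, GaloisField.card p f hf])
  -- conjugation
  have hone : ∀ h : H, DistribMulAction.toAddMonoidEnd H V h *
      DistribMulAction.toAddMonoidEnd H V h⁻¹ = 1 := by
    intro h; rw [← map_mul, mul_inv_cancel, map_one]
  have hone' : ∀ h : H, DistribMulAction.toAddMonoidEnd H V h⁻¹ *
      DistribMulAction.toAddMonoidEnd H V h = 1 := by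
    intro h; rw [← map_mul, inv_mul_cancel, map_one]
  have hnorm' : ∀ h : H, ∀ a ∈ E, DistribMulAction.toAddMonoidEnd H V h⁻¹ * a *
      DistribMulAction.toAddMonoidEnd H V h ∈ E := by
    intro h a ha
    have := hnorm h⁻¹ a ha
    rwa [inv_inv] at this
  let conj : H → (E ≃+* E) := fun h =>
    { toFun := fun a => ⟨_, hnorm h a.1 a.2⟩
      invFun := fun a => ⟨_, hnorm' h a.1 a.2⟩
      left_inv := by
        intro a
        apply Subtype.ext
        change DistribMulAction.toAddMonoidEnd H V h⁻¹ *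
          (DistribMulAction.toAddMonoidEnd H V h * a.1 * DistribMulAction.toAddMonoidEnd H V h⁻¹) *
          DistribMulAction.toAddMonoidEnd H V h = a.1
        rw [mul_assoc, mul_assoc, mul_assoc, hone', mul_one, ← mul_assoc, hone', one_mul]
      right_inv := by
        intro a
        apply Subtype.ext
        change DistribMulAction.toAddMonoidEnd H V h *
          (DistribMulAction.toAddMonoidEnd H V h⁻¹ * a.1 * DistribMulAction.toAddMonoidEnd H V h) *
          DistribMulAction.toAddMonoidEnd H V h⁻¹ = a.1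
        rw [mul_assoc, mul_assoc, mul_assoc, hone, mul_one, ← mul_assoc, hone, one_mul]
      map_mul' := by
        intro a b
        apply Subtype.ext
        change DistribMulAction.toAddMonoidEnd H V h * (a.1 * b.1) *
          DistribMulAction.toAddMonoidEnd H V h⁻¹ =
          (DistribMulAction.toAddMonoidEnd H V h * a.1 * DistribMulAction.toAddMonoidEnd H V h⁻¹) *
          (DistribMulAction.toAddMonoidEnd H V h * b.1 * DistribMulAction.toAddMonoidEnd H V h⁻¹)
        calc DistribMulAction.toAddMonoidEnd H V h * (a.1 * b.1) *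
              DistribMulAction.toAddMonoidEnd H V h⁻¹
            = DistribMulAction.toAddMonoidEnd H V h * a.1 * 1 * b.1 *
              DistribMulAction.toAddMonoidEnd H V h⁻¹ := by
              rw [mul_one]; simp only [mul_assoc]
          _ = _ := by rw [← hone' h]; simp only [mul_assoc]
      map_add' := by
        intro a b
        apply Subtype.ext
        change DistribMulAction.toAddMonoidEnd H V h * (a.1 + b.1) *
          DistribMulAction.toAddMonoidEnd H V h⁻¹ =
          (DistribMulAction.toAddMonoidEnd H V h * a.1 * DistribMulAction.toAddMonoidEnd H V h⁻¹) +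
          (DistribMulAction.toAddMonoidEnd H V h * b.1 * DistribMulAction.toAddMonoidEnd H V h⁻¹)
        rw [mul_add, add_mul] }
  refine ⟨evE.symm.trans θ.toAddEquiv, fun h => ?_⟩
  obtain ⟨c, hc, hcv⟩ := hE v₀ (h • v₀) hv₀
  have hc0 : (⟨c, hc⟩ : E) ≠ 0 := by
    intro h0
    have h1 : c = 0 := congrArg Subtype.val h0
    rw [h1] at hcv
    have h2 : h • v₀ = 0 := hcv.symm
    rw [smul_eq_zero_iff_eq] at h2
    exact hv₀ h2
  have hθc : θ ⟨c, hc⟩ ≠ 0 := by
    rw [Ne, map_eq_zero_iff θ θ.injective]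
    exact hc0
  refine ⟨Units.mk0 _ hθc, θ.symm.trans ((conj h).trans θ), fun v => ?_⟩
  obtain ⟨a, rfl⟩ := evE.surjective v
  have h1 : h • (evE a) = evE (⟨c, hc⟩ * conj h a) := by
    change h • (a.1 v₀) = c ((DistribMulAction.toAddMonoidEnd H V h * a.1 *
      DistribMulAction.toAddMonoidEnd H V h⁻¹) v₀)
    have h2 : c * (DistribMulAction.toAddMonoidEnd H V h * a.1 *
        DistribMulAction.toAddMonoidEnd H V h⁻¹) = (DistribMulAction.toAddMonoidEnd H V h * a.1 *
        DistribMulAction.toAddMonoidEnd H V h⁻¹) * c := hcomm _ hc _ (hnorm h a.1 a.2)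
    have h3 := DFunLike.congr_fun h2 v₀
    change c ((DistribMulAction.toAddMonoidEnd H V h * a.1 *
      DistribMulAction.toAddMonoidEnd H V h⁻¹) v₀) = (DistribMulAction.toAddMonoidEnd H V h * a.1 *
      DistribMulAction.toAddMonoidEnd H V h⁻¹) (c v₀) at h3
    rw [h3, hcv]
    change h • (a.1 v₀) = h • (a.1 (h⁻¹ • (h • v₀)))
    rw [inv_smul_smul]
  rw [h1]
  change θ (evE.symm (evE (⟨c, hc⟩ * conj h a))) =
    θ ⟨c, hc⟩ * θ (conj h (θ.symm (θ (evE.symm (evE a)))))
  rw [evE.symm_apply_apply, evE.symm_apply_apply, θ.symm_apply_apply, map_mul]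

end Cfsg.Agent.PermutationGroups.KantorCoord
end

-- part: H501/LinPrim
section
/-!
# Linear groups whose order is divisible by primitive prime divisors

`H` acts on the additive group `V` of order `p ^ n`.
-/

set_option autoImplicit false

namespace Cfsg.Agent.H501.LinPrim

open Subgroup

variable {V : Type*} [AddCommGroup V] [Finite V] {H : Type*} [Group H] [DistribMulAction H V]

/-- The fixed vectors of a subgroup. -/
def fixS (V : Type*) [AddCommGroup V] {H : Type*} [Group H] [DistribMulAction H V] (M : Subgroup H) :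
    AddSubgroup V where
  carrier := {v | ∀ m ∈ M, m • v = v}
  zero_mem' := fun m _ => smul_zero m
  add_mem' := fun {a b} ha hb m hm => by rw [smul_add, ha m hm, hb m hm]
  neg_mem' := fun {a} ha m hm => by rw [smul_neg, ha m hm]

theorem mem_fixS (M : Subgroup H) (v : V) : v ∈ fixS V M ↔ ∀ m ∈ M, m • v = v := Iff.rfl

/-- Counting fixed vectors of an `ℓ`-group in an invariant subgroup. -/
theorem card_modEq {l : ℕ} [Fact l.Prime] (M : Subgroup H) (hM : IsPGroup l M) (W : AddSubgroup V)
    (hW : ∀ m ∈ M, ∀ w ∈ W, m • w ∈ W) :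
    Nat.card W ≡ Nat.card (W ⊓ fixS V M : AddSubgroup V) [MOD l] := by
  let : MulAction M W :=
    { smul := fun m w => ⟨(m : H) • (w : V), hW m m.2 w w.2⟩
      one_smul := fun w => Subtype.ext (one_smul H (w : V))
      mul_smul := fun m m' w => Subtype.ext (mul_smul (m : H) (m' : H) (w : V)) }
  have h1 := hM.card_modEq_card_fixedPoints (α := W)
  have h2 : Nat.card (MulAction.fixedPoints M W) = Nat.card (W ⊓ fixS V M : AddSubgroup V) := by
    refine Nat.card_congr ⟨fun w => ⟨w.1.1, w.1.2, fun m hm => ?_⟩,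
      fun w => ⟨⟨w.1, w.2.1⟩, fun m => ?_⟩, fun w => rfl, fun w => rfl⟩
    · exact congrArg Subtype.val (w.2 ⟨m, hm⟩)
    · exact Subtype.ext (w.2.2 m m.2)
  rwa [h2] at h1

theorem exists_card {p n : ℕ} (hp : p.Prime) (hV : Nat.card V = p ^ n) (W : AddSubgroup V) :
    ∃ k ≤ n, Nat.card W = p ^ k :=
  (Nat.dvd_prime_pow hp).mp (hV ▸ AddSubgroup.card_addSubgroup_dvd_card W)

/-- `p ^ a ≡ p ^ b` modulo a primitive prime divisor of `p ^ n - 1`. -/
theorem dvd_sub_of_modEq {p n r a b : ℕ} (hp : p.Prime) (hr : r.Prime) (hrp : ¬ r ∣ p)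
    (hprim : ∀ m, r ∣ p ^ m - 1 ↔ n ∣ m) (hba : b ≤ a) (h : p ^ a ≡ p ^ b [MOD r]) : n ∣ a - b := by
  rw [← hprim]
  have h1 : p ^ b * p ^ (a - b) ≡ p ^ b * 1 [MOD r] := by
    rw [← pow_add, mul_one]
    rwa [show b + (a - b) = a by omega]
  have h2 : Nat.Coprime r (p ^ b) := Nat.Coprime.pow_right b ((Nat.Prime.coprime_iff_not_dvd hr).mpr hrp)
  have h3 := Nat.ModEq.cancel_left_of_coprime h2 h1
  exact (Nat.modEq_iff_dvd' (Nat.one_le_pow _ _ hp.pos)).mp h3.symm

variable [FaithfulSMul H V]

/-- A nontrivial `r`-group has no fixed vectors, `r` a primitive prime divisor of `p ^ n - 1`. -/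
theorem fixS_eq_bot {p n r : ℕ} (hp : p.Prime) (hV : Nat.card V = p ^ n) [hrF : Fact r.Prime]
    (hrp : ¬ r ∣ p) (hprim : ∀ m, r ∣ p ^ m - 1 ↔ n ∣ m) (M : Subgroup H) (hM : IsPGroup r M)
    (hM1 : M ≠ ⊥) : fixS V M = ⊥ := by
  obtain ⟨k, hk, hkc⟩ := exists_card hp hV (fixS V M)
  have h1 := card_modEq M hM (⊤ : AddSubgroup V) (fun _ _ _ _ => AddSubgroup.mem_top _)
  rw [AddSubgroup.card_top, top_inf_eq, hV, hkc] at h1
  have h2 := dvd_sub_of_modEq hp hrF.out hrp hprim hk h1
  rcases Nat.eq_zero_or_pos k with h3 | h3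
  · rw [h3, pow_zero] at hkc
    exact AddSubgroup.card_eq_one.mp hkc
  · exfalso
    have h4 : n - k = 0 := by
      by_contra h5
      have := Nat.le_of_dvd (Nat.pos_of_ne_zero h5) h2
      omega
    have h5 : k = n := by omega
    have h6 : fixS V M = ⊤ := by
      apply AddSubgroup.eq_top_of_card_eq
      rw [hkc, hV, h5]
    apply hM1
    rw [eq_bot_iff]
    intro m hm
    rw [mem_bot]
    apply (‹FaithfulSMul H V›).eq_of_smul_eq_smul (α := V)
    intro v
    rw [one_smul]
    exact (h6 ▸ AddSubgroup.mem_top v : v ∈ fixS V M) m hm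

/-- A nontrivial `r`-group acts irreducibly, `r` a primitive prime divisor of `p ^ n - 1`. -/
theorem irred {p n r : ℕ} (hp : p.Prime) (hV : Nat.card V = p ^ n) [hrF : Fact r.Prime]
    (hrp : ¬ r ∣ p) (hprim : ∀ m, r ∣ p ^ m - 1 ↔ n ∣ m) (M : Subgroup H) (hM : IsPGroup r M)
    (hM1 : M ≠ ⊥) (W : AddSubgroup V) (hW : ∀ m ∈ M, ∀ w ∈ W, m • w ∈ W) : W = ⊥ ∨ W = ⊤ := by
  obtain ⟨k, hk, hkc⟩ := exists_card hp hV W
  have h1 := card_modEq M hM W hW
  rw [fixS_eq_bot hp hV hrp hprim M hM hM1, inf_bot_eq, AddSubgroup.card_bot, hkc] at h1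
  have h2 := dvd_sub_of_modEq hp hrF.out hrp hprim (Nat.zero_le k) (by rw [pow_zero]; exact h1)
  rw [Nat.sub_zero] at h2
  rcases Nat.eq_zero_or_pos k with h3 | h3
  · left
    rw [h3, pow_zero] at hkc
    exact AddSubgroup.card_eq_one.mp hkc
  · right
    have := Nat.le_of_dvd h3 h2
    have h5 : k = n := by omega
    apply AddSubgroup.eq_top_of_card_eq
    rw [hkc, hV, h5]

omit [FaithfulSMul H V] in
/-- A `q`-group has nonzero fixed vectors, `q` a primitive prime divisor of `p ^ (n - 1) - 1`. -/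
theorem fixS_ne_bot {p n q : ℕ} (hn : 3 ≤ n) (hp : p.Prime) (hV : Nat.card V = p ^ n)
    [hqF : Fact q.Prime]
    (hqp : ¬ q ∣ p) (hprim : ∀ m, q ∣ p ^ m - 1 ↔ (n - 1) ∣ m) (M : Subgroup H)
    (hM : IsPGroup q M) : fixS V M ≠ ⊥ := by
  intro hbot
  have h1 := card_modEq M hM (⊤ : AddSubgroup V) (fun _ _ _ _ => AddSubgroup.mem_top _)
  rw [AddSubgroup.card_top, top_inf_eq, hV, hbot, AddSubgroup.card_bot] at h1
  have h2 := dvd_sub_of_modEq hp hqF.out hqp hprim (Nat.zero_le n) (by rw [pow_zero]; exact h1)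
  rw [Nat.sub_zero] at h2
  obtain ⟨c, hc⟩ := h2
  have : c ≠ 0 := by rintro rfl; omega
  have h3 : c = 1 ∨ 2 ≤ c := by omega
  rcases h3 with rfl | h3
  · omega
  · have : (n - 1) * 2 ≤ (n - 1) * c := Nat.mul_le_mul_left _ h3
    omega

/-- The fixed vectors of a normal subgroup are invariant. -/
theorem smul_mem_fixS (M : Subgroup H) [hM : M.Normal] (h : H) {v : V} (hv : v ∈ fixS V M) :
    h • v ∈ fixS V M := by
  intro m hm
  have h1 := hv (h⁻¹ * m * h) (by simpa using hM.conj_mem m hm h⁻¹)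
  calc m • h • v = h • (h⁻¹ * m * h) • v := by
        rw [smul_smul, smul_smul]; congr 1; group
    _ = h • v := by rw [h1]

/-- A solvable group of order divisible by primitive prime divisors `q` of `p ^ (n - 1) - 1` and `r` of
`p ^ n - 1` only and with `q > n` does not exist. -/
theorem no_hall [Finite H] [Group.IsSolvable H] {p n q r : ℕ} (hn : 3 ≤ n) [hpF : Fact p.Prime]
    (hV : Nat.card V = p ^ n) [hqF : Fact q.Prime] [hrF : Fact r.Prime]
    (hqp : ¬ q ∣ p) (hqprim : ∀ m, q ∣ p ^ m - 1 ↔ (n - 1) ∣ m)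
    (hrp : ¬ r ∣ p) (hrprim : ∀ m, r ∣ p ^ m - 1 ↔ n ∣ m) (hqn : n < q)
    (hq : q ∣ Nat.card H) (hr : r ∣ Nat.card H)
    (hH : ∀ l : ℕ, l.Prime → l ∣ Nat.card H → l = q ∨ l = r) : False := by
  have hp := hpF.out
  obtain ⟨x, hx⟩ := exists_prime_orderOf_dvd_card' r hr
  obtain ⟨y, hy⟩ := exists_prime_orderOf_dvd_card' q hq
  have hx1 : x ≠ 1 := fun h => by
    rw [h, orderOf_one] at hx; exact hrF.out.one_lt.ne hx
  have hnt : Nontrivial H := ⟨x, 1, hx1⟩
  obtain ⟨l, M, hl, hMn, hM1, hMc, hMl⟩ := Solvable.HallAux.exists_normal_elementary (G := H)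
  have hlF : Fact l.Prime := ⟨hl⟩
  have hMp : IsPGroup l M := by
    intro m
    exact ⟨1, by rw [pow_one]; exact Subtype.ext (hMl m m.2)⟩
  have hldvd : l ∣ Nat.card H := by
    rcases hMp.card_eq_or_dvd with h | h
    · exact absurd (Subgroup.card_eq_one.mp h) hM1
    · exact h.trans (Subgroup.card_subgroup_dvd_card M)
  have hVnt : Nontrivial V := by
    rw [← Finite.one_lt_card_iff_nontrivial, hV]
    exact Nat.one_lt_pow (by omega) hp.one_lt
  have hxr : IsPGroup r (zpowers x) := IsPGroup.of_card (n := 1) (by rw [Nat.card_zpowers, hx, pow_one])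
  have hx1' : zpowers x ≠ ⊥ := by rwa [Ne, zpowers_eq_bot]
  rcases hH l hl hldvd with rfl | rfl
  · -- the normal subgroup is a `q`-group
    have h1 := fixS_ne_bot hn hp hV hqp hqprim M hMp
    rcases irred hp hV hrp hrprim (zpowers x) hxr hx1' (fixS V M)
      (fun m _ w hw => smul_mem_fixS M m hw) with h2 | h2
    · exact h1 h2
    · apply hM1
      rw [eq_bot_iff]
      intro m hm
      rw [mem_bot]
      apply (‹FaithfulSMul H V›).eq_of_smul_eq_smul (α := V)
      intro v
      rw [one_smul]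
      exact (h2 ▸ AddSubgroup.mem_top v : v ∈ fixS V M) m hm
  · -- the normal subgroup is an `r`-group
    open PermutationGroups.HalfTransField in
    have hEc := ringOf_comm (V := V) M (fun a ha b hb => congrArg Subtype.val (hMc.is_comm.comm (⟨a, ha⟩ : M) ⟨b, hb⟩))
    open PermutationGroups.HalfTransField in
    have hEn := ringOf_conj (V := V) M hMn
    have hEt : ∀ v w : V, v ≠ 0 →
        ∃ a ∈ PermutationGroups.HalfTransField.ringOf (V := V) M, a v = w := by
      intro v w hv
      let W : AddSubgroup V :=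
        { carrier := {w | ∃ a ∈ PermutationGroups.HalfTransField.ringOf (V := V) M, a v = w}
          zero_mem' := ⟨0, Subring.zero_mem _, rfl⟩
          add_mem' := by
            rintro _ _ ⟨a, ha, rfl⟩ ⟨b, hb, rfl⟩
            exact ⟨a + b, Subring.add_mem _ ha hb, rfl⟩
          neg_mem' := by
            rintro _ ⟨a, ha, rfl⟩
            exact ⟨-a, Subring.neg_mem _ ha, rfl⟩ }
      have hvW : v ∈ W := ⟨1, Subring.one_mem _, rfl⟩
      rcases irred hp hV hrp hrprim M hMp hM1 W (by
        rintro m hm _ ⟨a, ha, rfl⟩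
        exact ⟨PermutationGroups.HalfTransField.tau m * a,
          Subring.mul_mem _ (PermutationGroups.HalfTransField.tau_mem_ringOf M hm) ha, rfl⟩) with h2 | h2
      · exact absurd (by rw [h2] at hvW; exact hvW) hv
      · exact (h2 ▸ AddSubgroup.mem_top w : w ∈ W)
    obtain ⟨ε, hε⟩ := PermutationGroups.KantorCoord.coord (by omega) hV
      (PermutationGroups.HalfTransField.ringOf (V := V) M) hEc hEt hEn
    obtain ⟨a, φ, haφ⟩ := hε y
    -- the power of `y`
    have hpow : ∀ k : ℕ, ∃ b : (GaloisField p n)ˣ, ∀ v, ε (y ^ k • v) = b * (φ ^ k : GaloisField p n ≃+* GaloisField p n) (ε v) := by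
      intro k
      induction k with
      | zero => exact ⟨1, fun v => by simp⟩
      | succ k ih =>
        obtain ⟨b, hb⟩ := ih
        refine ⟨a * Units.map (φ : GaloisField p n →* GaloisField p n) b, fun v => ?_⟩
        rw [pow_succ', mul_smul, haφ, hb, map_mul, pow_succ', RingAut.mul_apply, Units.val_mul,
          mul_assoc]
        rfl
    have hyq : y ^ q = 1 := by rw [← hy, pow_orderOf_eq_one]
    have hφ : (φ : RingAut (GaloisField p n)) ^ q = 1 := by
      obtain ⟨b, hb⟩ := hpow q
      have h1 := hb (ε.symm 1)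
      rw [hyq, one_smul, AddEquiv.apply_symm_apply, map_one, mul_one] at h1
      apply RingEquiv.ext
      intro t
      have h2 := hb (ε.symm t)
      rw [hyq, one_smul, AddEquiv.apply_symm_apply, ← h1, one_mul] at h2
      exact h2.symm
    have hcardF : Nat.card (GaloisField p n) = p ^ n := GaloisField.card p n (by omega)
    have hφ1 : (φ : RingAut (GaloisField p n)) = 1 := by
      obtain ⟨d, hd, hdle⟩ := PermutationGroups.HalfTransLinear.card_ringAut_le p (GaloisField p n)
      have hdn : d = n := by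
        rw [hcardF] at hd
        exact (Nat.pow_right_injective hp.two_le hd).symm
      have : Finite (RingAut (GaloisField p n)) :=
        Finite.of_injective (fun f : RingAut (GaloisField p n) => (f : GaloisField p n → GaloisField p n))
          DFunLike.coe_injective
      have h1 : orderOf (φ : RingAut (GaloisField p n)) ≤ n := by
        exact (_root_.orderOf_le_card).trans (hdle.trans hdn.le)
      have h2 : orderOf (φ : RingAut (GaloisField p n)) ∣ q := orderOf_dvd_of_pow_eq_one hφ
      rcases (Nat.dvd_prime hqF.out).mp h2 with h3 | h3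
      · exact orderOf_eq_one_iff.mp h3
      · omega
    have hlin : ∀ k : ℕ, ∀ v, ε (y ^ k • v) = ((a ^ k : (GaloisField p n)ˣ) : GaloisField p n) * ε v := by
      intro k
      induction k with
      | zero => intro v; simp
      | succ k ih =>
        intro v
        rw [pow_succ', mul_smul, haφ, ih, hφ1]
        change (a : GaloisField p n) * (((a ^ k : (GaloisField p n)ˣ) : GaloisField p n) * ε v) = _
        rw [pow_succ', Units.val_mul, mul_assoc]
    have haq : a ^ q = 1 := by
      have h1 := hlin q (ε.symm 1)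
      rw [hyq, one_smul, AddEquiv.apply_symm_apply, mul_one] at h1
      exact Units.ext h1.symm
    have ha1 : a ≠ 1 := by
      intro ha
      have hy1 : y = 1 := by
        apply (‹FaithfulSMul H V›).eq_of_smul_eq_smul (α := V)
        intro v
        apply ε.injective
        have h1 := hlin 1 v
        rw [pow_one, pow_one, ha, Units.val_one, one_mul] at h1
        rw [h1, one_smul]
      rw [hy1, orderOf_one] at hy
      exact hqF.out.one_lt.ne hy
    have hao : orderOf a = q := orderOf_eq_prime haq ha1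
    have hdvd : q ∣ p ^ n - 1 := by
      rw [← hao, ← hcardF, ← Nat.card_units]
      exact orderOf_dvd_natCard a
    rw [hqprim] at hdvd
    obtain ⟨c, hc⟩ := hdvd
    have : c ≠ 0 := by rintro rfl; omega
    have h3 : c = 1 ∨ 2 ≤ c := by omega
    rcases h3 with rfl | h3
    · omega
    · have : (n - 1) * 2 ≤ (n - 1) * c := Nat.mul_le_mul_left _ h3
      omega

/-- No solvable group satisfies the divisibility conditions coming from transitivity on the subgroups of
order `p` and `p ^ 2` of `V`, if `n ≥ 4` is even and `p` odd. -/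
theorem no_even [Finite H] [Group.IsSolvable H] {p n : ℕ} (hn : 3 ≤ n) (hev : Even n)
    [hpF : Fact p.Prime] (hp2 : p ≠ 2) (hV : Nat.card V = p ^ n)
    (h1 : (p ^ n - 1) ∣ Nat.card H * (p - 1))
    (h2 : (p ^ n - 1) * (p ^ n - p) ∣ Nat.card H * ((p ^ 2 - 1) * (p ^ 2 - p))) : False := by
  have hp := hpF.out
  have hn4 : 4 ≤ n := by
    obtain ⟨k, hk⟩ := hev
    omega
  have hp3 : 3 ≤ p := by have := hp.two_le; omega
  obtain ⟨r, hr, hrprim, hrn, hrp⟩ := Lib.Zsigmondy.exists_primitive (a := p) (n := n) hp.two_le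
    (by omega) (by omega) (by omega)
  obtain ⟨q, hq, hqprim, hqn, hqp⟩ := Lib.Zsigmondy.exists_primitive (a := p) (n := n - 1) hp.two_le
    (by omega) (by omega) (by omega)
  have hrF : Fact r.Prime := ⟨hr⟩
  have hqF : Fact q.Prime := ⟨hq⟩
  have hqr : q ≠ r := by
    rintro rfl
    have h3 := (hrprim (n - 1)).mp ((hqprim (n - 1)).mpr dvd_rfl)
    have := Nat.le_of_dvd (by omega) h3
    omega
  have hrH : r ∣ Nat.card H := by
    have h3 : r ∣ Nat.card H * (p - 1) := ((hrprim n).mpr dvd_rfl).trans h1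
    rcases hr.dvd_mul.mp h3 with h4 | h4
    · exact h4
    · exfalso
      have h5 := (hrprim 1).mp (by rwa [pow_one])
      have := Nat.le_of_dvd (by omega) h5
      omega
  have hqH : q ∣ Nat.card H := by
    have h3 : q ∣ Nat.card H * ((p ^ 2 - 1) * (p ^ 2 - p)) := by
      refine dvd_trans ?_ h2
      apply dvd_mul_of_dvd_right
      have h4 : p ^ n - p = p * (p ^ (n - 1) - 1) := by
        rw [Nat.mul_sub, mul_one, ← pow_succ', show n - 1 + 1 = n by omega]
      rw [h4]
      exact dvd_mul_of_dvd_right ((hqprim (n - 1)).mpr dvd_rfl) _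
    rcases hq.dvd_mul.mp h3 with h4 | h4
    · exact h4
    · exfalso
      rcases hq.dvd_mul.mp h4 with h5 | h5
      · have h6 := (hqprim 2).mp h5
        have := Nat.le_of_dvd (by omega) h6
        omega
      · have h7 : p ^ 2 - p = p * (p - 1) := by rw [Nat.mul_sub, mul_one, pow_two]
        rw [h7] at h5
        rcases hq.dvd_mul.mp h5 with h6 | h6
        · exact hqp h6
        · have h8 := (hqprim 1).mp (by rwa [pow_one])
          have := Nat.le_of_dvd (by omega) h8
          omega
  have hqn' : n < q := by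
    have h3 := Nat.le_of_dvd (by have := hq.two_le; omega) hqn
    have h4 : q ≠ n := by
      rintro rfl
      rcases hq.eq_two_or_odd' with h5 | h5
      · omega
      · exact (Nat.not_even_iff_odd.mpr h5) hev
    omega
  -- the Hall subgroup
  set N := Nat.card H with hN
  have hN0 : N ≠ 0 := Nat.card_pos.ne'
  set a := q ^ N.factorization q with ha
  set b := r ^ N.factorization r with hb
  have hab : a.Coprime b := Nat.Coprime.pow _ _ ((Nat.coprime_primes hq hr).mpr hqr)
  have haN : a ∣ N := Nat.ordProj_dvd N q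
  have hbN : b ∣ N := Nat.ordProj_dvd N r
  obtain ⟨c, hc⟩ := hab.mul_dvd_of_dvd_of_dvd haN hbN
  have hcq : ¬ q ∣ c := by
    rintro ⟨d, hd⟩
    apply Nat.pow_succ_factorization_not_dvd hN0 hq
    refine ⟨b * d, ?_⟩
    rw [pow_succ, ← ha]
    calc N = a * b * c := hc
      _ = a * q * (b * d) := by rw [hd]; ring
  have hcr : ¬ r ∣ c := by
    rintro ⟨d, hd⟩
    apply Nat.pow_succ_factorization_not_dvd hN0 hr
    refine ⟨a * d, ?_⟩
    rw [pow_succ, ← hb]
    calc N = a * b * c := hc
      _ = b * r * (a * d) := by rw [hd]; ring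
  have hcop : (a * b).Coprime c := by
    apply Nat.Coprime.mul_left
    · exact Nat.Coprime.pow_left _ ((Nat.Prime.coprime_iff_not_dvd hq).mpr hcq)
    · exact Nat.Coprime.pow_left _ ((Nat.Prime.coprime_iff_not_dvd hr).mpr hcr)
  obtain ⟨K, hK⟩ := S0003.result (a * b) c hc hcop
  have hfq : N.factorization q ≠ 0 := by
    have := (hq.dvd_iff_one_le_factorization hN0).mp hqH
    omega
  have hfr : N.factorization r ≠ 0 := by
    have := (hr.dvd_iff_one_le_factorization hN0).mp hrH
    omega
  refine no_hall (H := K) hn hV hqp hqprim hrp hrprim hqn' ?_ ?_ ?_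
  · rw [hK]
    exact dvd_mul_of_dvd_left (dvd_pow_self q hfq) _
  · rw [hK]
    exact dvd_mul_of_dvd_right (dvd_pow_self r hfr) _
  · intro l hl hlK
    rw [hK] at hlK
    rcases hl.dvd_mul.mp hlK with h5 | h5
    · left
      exact (Nat.prime_dvd_prime_iff_eq hl hq).mp (hl.dvd_of_dvd_pow h5)
    · right
      exact (Nat.prime_dvd_prime_iff_eq hl hr).mp (hl.dvd_of_dvd_pow h5)

end Cfsg.Agent.H501.LinPrim
end
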