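import Cfsg.Agent.H501.LinPrim
import Cfsg.Agent.ClassicalGeometry.SubspaceFrames
import Cfsg.Prelude.Def_Perm
set_option linter.all false

/-!
# Solvable linear groups transitive on the subspaces of dimension one and two
-/

set_option autoImplicit false

namespace Cfsg.Agent.H501.LinTrans

open Subgroup

section Semi

variable (F : Type*) [Field F] [Finite F]

/-- The maps `x ↦ a φ(x) + b` are parametrised by the triples `(a, b, φ)`. -/
noncomputable def semiEquiv : Fˣ × F × RingAut F ≃ Cfsg.semiaffineGroup F :=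
  Equiv.ofBijective
    (fun t => ⟨{ toFun := fun x => (t.1 : F) * t.2.2 x + t.2.1
                 invFun := fun y => t.2.2.symm ((t.1⁻¹ : Fˣ) * (y - t.2.1))
                 left_inv := fun x => by simp
                 right_inv := fun y => by simp }, ⟨t.1, t.2.1, t.2.2, fun x => rfl⟩⟩)
    (by
      constructor
      · rintro ⟨a, b, φ⟩ ⟨a', b', φ'⟩ h
        have h0 : ∀ x : F, (a : F) * φ x + b = (a' : F) * φ' x + b' := fun x =>
          congrArg (fun σ : Cfsg.semiaffineGroup F => (σ : Equiv.Perm F) x) h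
        have hb : b = b' := by simpa using h0 0
        subst hb
        have ha : a = a' := by
          apply Units.ext
          simpa using h0 1
        subst ha
        have hφ : φ = φ' := by
          apply RingEquiv.ext
          intro x
          have := add_right_cancel (h0 x)
          exact mul_left_cancel₀ a.ne_zero this
        rw [hφ]
      · rintro ⟨σ, a, b, φ, hσ⟩
        refine ⟨(a, b, φ), Subtype.ext (Equiv.ext fun x => ?_)⟩
        exact (hσ x).symm)

theorem finite_ringAut : Finite (RingAut F) :=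
  Finite.of_injective (fun f : RingAut F => (f : F → F)) DFunLike.coe_injective

theorem card_semiaffine : Nat.card (Cfsg.semiaffineGroup F) =
    (Nat.card F - 1) * (Nat.card F * Nat.card (RingAut F)) := by
  rw [← Nat.card_congr (semiEquiv F), Nat.card_prod, Nat.card_prod, Nat.card_units]

/-- The maps `x ↦ a x + b` are parametrised by the pairs `(a, b)`. -/
noncomputable def affEquiv : Fˣ × F ≃ Cfsg.affineGroup F :=
  Equiv.ofBijective
    (fun t => ⟨{ toFun := fun x => (t.1 : F) * x + t.2
                 invFun := fun y => ((t.1⁻¹ : Fˣ) * (y - t.2))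
                 left_inv := fun x => by simp
                 right_inv := fun y => by simp }, ⟨t.1, t.2, fun x => rfl⟩⟩)
    (by
      constructor
      · rintro ⟨a, b⟩ ⟨a', b'⟩ h
        have h0 : ∀ x : F, (a : F) * x + b = (a' : F) * x + b' := fun x =>
          congrArg (fun σ : Cfsg.affineGroup F => (σ : Equiv.Perm F) x) h
        have hb : b = b' := by simpa using h0 0
        subst hb
        have ha : a = a' := by
          apply Units.ext
          simpa using h0 1
        rw [ha]
      · rintro ⟨σ, a, b, hσ⟩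
        refine ⟨(a, b), Subtype.ext (Equiv.ext fun x => ?_)⟩
        exact (hσ x).symm)

theorem card_affine : Nat.card (Cfsg.affineGroup F) = (Nat.card F - 1) * Nat.card F := by
  rw [← Nat.card_congr (affEquiv F), Nat.card_prod, Nat.card_units]

/-- The number of ring automorphisms of the field with `p ^ n` elements. -/
theorem card_ringAut (p n : ℕ) [Fact p.Prime] (hn : n ≠ 0) :
    Nat.card (RingAut (GaloisField p n)) = n := by
  have h1 : Nat.card (GaloisField p n ≃ₐ[ZMod p] GaloisField p n) = n := by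
    rw [IsGalois.card_aut_eq_finrank, GaloisField.finrank p hn]
  refine (Nat.card_congr ⟨fun f => AlgEquiv.ofRingEquiv (R := ZMod p) (f := (f : GaloisField p n ≃+* GaloisField p n)) ?_,
    fun g => (g : GaloisField p n ≃+* GaloisField p n), fun f => ?_, fun g => ?_⟩).trans h1
  · intro x
    have : (f : GaloisField p n →+* GaloisField p n).comp (algebraMap (ZMod p) (GaloisField p n)) = algebraMap (ZMod p) (GaloisField p n) :=
      Subsingleton.elim _ _
    exact RingHom.congr_fun this x
  · rfl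
  · rfl

end Semi

section Semilin

variable {V : Type*} [AddCommGroup V] [Finite V] {S : Type*} [Group S] [DistribMulAction S V]
  [FaithfulSMul S V] {p n : ℕ} [hpF : Fact p.Prime]

/-- The order of a group of semilinear maps of dimension one. -/
theorem card_dvd_of_semilinear [Finite S] (hn : n ≠ 0) (θ : V ≃+ GaloisField p n)
    (hS : ∀ s : S, ∃ (c : (GaloisField p n)ˣ) (φ : GaloisField p n ≃+* GaloisField p n),
        ∀ v : V, θ (s • v) = c * φ (θ v)) : Nat.card S ∣ n * (p ^ n - 1) := by
  classical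
  let F := GaloisField p n
  let G := Cfsg.semiaffineGroup F
  let f : S →* G :=
    { toFun := fun s => ⟨{ toFun := fun x => θ (s • θ.symm x)
                           invFun := fun x => θ (s⁻¹ • θ.symm x)
                           left_inv := fun x => by simp
                           right_inv := fun x => by simp }, by
        obtain ⟨c, φ, h⟩ := hS s
        exact ⟨c, 0, φ, fun x => by simp [h]⟩⟩
      map_one' := Subtype.ext (Equiv.ext fun x => by simp)
      map_mul' := fun s t => Subtype.ext (Equiv.ext fun x => by simp [mul_smul]) }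
  have hf : ∀ s : S, ∀ x : F, ((f s : G) : Equiv.Perm F) x = θ (s • θ.symm x) := fun s x => rfl
  let M : Subgroup G := MulAction.stabilizer G (0 : F)
  have hfM : ∀ s : S, f s ∈ M := by
    intro s
    show ((f s : G) : Equiv.Perm F) 0 = 0
    rw [hf]; simp
  let g : S →* M := f.codRestrict M hfM
  have hg : Function.Injective g := by
    intro s t hst
    apply (‹FaithfulSMul S V›).eq_of_smul_eq_smul (α := V)
    intro v
    have h1 : f s = f t := congrArg Subtype.val hst
    have h2 : ((f s : G) : Equiv.Perm F) (θ v) = ((f t : G) : Equiv.Perm F) (θ v) := by rw [h1]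
    rw [hf, hf, AddEquiv.symm_apply_apply] at h2
    exact θ.injective h2
  have hFc : Nat.card F = p ^ n := GaloisField.card p n hn
  have horb : MulAction.orbit G (0 : F) = Set.univ := by
    rw [Set.eq_univ_iff_forall]
    intro b
    refine ⟨⟨Equiv.addRight b, 1, b, RingEquiv.refl F, fun x => by simp⟩, ?_⟩
    show (0 : F) + b = b
    rw [zero_add]
  have hM : Nat.card F * Nat.card M = Nat.card G := by
    have h1 := Subgroup.card_mul_index M
    rw [MulAction.index_stabilizer, horb, Set.ncard_univ, mul_comm] at h1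
    exact h1
  have hFpos : 0 < Nat.card F := Nat.card_pos
  have hMc : Nat.card M = n * (p ^ n - 1) := by
    have h2 := card_semiaffine F
    rw [card_ringAut p n hn] at h2
    have h3 : Nat.card F * Nat.card M = Nat.card F * (n * (p ^ n - 1)) := by
      rw [hM]
      show Nat.card (Cfsg.semiaffineGroup F) = _
      rw [h2, hFc]; ring
    exact Nat.eq_of_mul_eq_mul_left hFpos h3
  rw [← hMc]
  exact Subgroup.card_dvd_of_injective g hg

end Semilin

/-- the arithmetic -/
theorem arith {p n s : ℕ} (hp : p.Prime) (hn : 4 ≤ n)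
    (h : (p ^ (n - 1) - 1) * s = n * (p ^ 2 - 1)) : n = 5 ∧ p = 2 := by
  have hp2 := hp.two_le
  have hpos : 0 < n * (p ^ 2 - 1) := by
    have : 2 ^ 2 ≤ p ^ 2 := Nat.pow_le_pow_left hp2 2
    exact Nat.mul_pos (by omega) (by omega)
  have hs : s ≠ 0 := by
    rintro rfl
    rw [mul_zero] at h
    omega
  have hle : p ^ (n - 1) - 1 ≤ n * (p ^ 2 - 1) := by
    rw [← h]; exact Nat.le_mul_of_pos_right _ (Nat.pos_of_ne_zero hs)
  rcases Nat.lt_or_ge n 6 with h6 | h6
  · interval_cases n
    · exfalso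
      -- `n = 4`
      obtain ⟨c, hc⟩ : ∃ c, p = c + 1 := ⟨p - 1, by omega⟩
      subst hc
      have e1 : (c + 1) ^ (4 - 1) - 1 = c * ((c + 1) ^ 2 + (c + 1) + 1) := by
        have : (c + 1) ^ (4 - 1) = c * ((c + 1) ^ 2 + (c + 1) + 1) + 1 := by ring
        omega
      have e2 : (c + 1) ^ 2 - 1 = c * (c + 2) := by
        have : (c + 1) ^ 2 = c * (c + 2) + 1 := by ring
        omega
      rw [e1, e2] at h
      have hc0 : 0 < c := by omega
      have h1 : ((c + 1) ^ 2 + (c + 1) + 1) * s = 4 * (c + 2) := by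
        apply Nat.eq_of_mul_eq_mul_left hc0
        linarith
      have hodd : ((c + 1) ^ 2 + (c + 1) + 1).Coprime 2 := by
        rw [Nat.coprime_two_right]
        have : (c + 1) ^ 2 + (c + 1) + 1 = (c + 1) * ((c + 1) + 1) + 1 := by ring
        rw [this]
        exact (Nat.even_mul_succ_self (c + 1)).add_one
      have h2 : ((c + 1) ^ 2 + (c + 1) + 1) ∣ 2 ^ 2 * (c + 2) := ⟨s, by rw [h1]; norm_num⟩
      have h3 : ((c + 1) ^ 2 + (c + 1) + 1) ∣ c + 2 :=
        (Nat.Coprime.pow_right 2 hodd).dvd_of_dvd_mul_left h2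
      have h4 := Nat.le_of_dvd (by omega) h3
      nlinarith
    · refine ⟨rfl, ?_⟩
      have e1 : p ^ (5 - 1) - 1 = (p ^ 2 - 1) * (p ^ 2 + 1) := by
        obtain ⟨c, hc⟩ : ∃ c, p ^ 2 = c + 1 := ⟨p ^ 2 - 1, by have := Nat.pow_le_pow_left hp2 2; omega⟩
        have : p ^ (5 - 1) = p ^ 2 * p ^ 2 := by ring
        rw [this, hc, Nat.add_sub_cancel]
        have : (c + 1) * (c + 1) = c * (c + 1 + 1) + 1 := by ring
        omega
      rw [e1] at hle
      have h2 : p ^ 2 + 1 ≤ 5 := by
        have h4 : 2 ^ 2 ≤ p ^ 2 := Nat.pow_le_pow_left hp2 2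
        have h3 : 0 < p ^ 2 - 1 := by omega
        rw [mul_comm 5] at hle
        exact Nat.le_of_mul_le_mul_left hle h3
      nlinarith
  · exfalso
    have h1 : n + 1 ≤ p ^ (n - 3) := by
      have h2 : 2 ^ (n - 3) ≤ p ^ (n - 3) := Nat.pow_le_pow_left hp2 _
      refine le_trans ?_ h2
      clear h hle h2 hpos
      induction n, h6 using Nat.le_induction with
      | base => norm_num
      | succ m hm ih =>
        have ih' := ih (by omega)
        rw [show m + 1 - 3 = (m - 3) + 1 by omega, pow_succ]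
        omega
    have h3 : p ^ (n - 1) = p ^ (n - 3) * p ^ 2 := by
      rw [← pow_add]; congr 1; omega
    rw [h3] at hle
    have h4 : (n + 1) * p ^ 2 ≤ p ^ (n - 3) * p ^ 2 := Nat.mul_le_mul_right _ h1
    have h5 : n * (p ^ 2 - 1) + n = n * p ^ 2 := by
      obtain ⟨c, hc⟩ : ∃ c, p ^ 2 = c + 1 := ⟨p ^ 2 - 1, by have := Nat.pow_le_pow_left hp2 2; omega⟩
      rw [hc, Nat.add_sub_cancel]; ring
    have h6' : (n + 1) * p ^ 2 = n * p ^ 2 + p ^ 2 := by ring
    have h7 : 2 ^ 2 ≤ p ^ 2 := Nat.pow_le_pow_left hp2 2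
    omega

section Count

variable {p n : ℕ} [hpF : Fact p.Prime] {V : Type*} [AddCommGroup V] [Module (ZMod p) V] [Finite V]

/-- The number of planes. -/
theorem card_planes (hV : Module.finrank (ZMod p) V = n) (hn : 2 ≤ n) :
    Nat.card {W : Submodule (ZMod p) V // Module.finrank (ZMod p) W = 2} *
      ((p ^ 2 - 1) * (p ^ 2 - p)) = (p ^ n - 1) * (p ^ n - p) := by
  have h1 := ClassicalGeometry.SubspaceFrames.card_subspaces_mul (F := ZMod p) (V := V) 2
    (fun _ => True)
  have h2 : Nat.card {b : Fin 2 → V // LinearIndependent (ZMod p) b ∧ True} =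
      ∏ i : Fin 2, (p ^ n - p ^ (i : ℕ)) := by
    rw [← hV]
    have h3 := card_linearIndependent (K := ZMod p) (V := V) (k := 2) (by omega)
    rw [ZMod.card] at h3
    rw [← h3]
    exact Nat.card_congr (Equiv.subtypeEquivRight fun b => by simp)
  rw [h2, ZMod.card] at h1
  simp only [Fin.prod_univ_two, Fin.val_zero, Fin.val_one, pow_zero, pow_one, and_true] at h1
  exact h1

/-- The count of planes for a group `S` of linear maps containing a subgroup `Z` of scalars. -/
theorem card_planes_dvd {S : Type*} [Group S] [Finite S] [DistribMulAction S V]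
    [SMulCommClass S (ZMod p) V]
    (hV : Module.finrank (ZMod p) V = n) (hn : 2 ≤ n)
    (hT2 : ∀ U W : Submodule (ZMod p) V, Module.finrank (ZMod p) U = 2 →
      Module.finrank (ZMod p) W = 2 → ∃ s : S, ∀ u ∈ U, s • u ∈ W)
    (Z : Subgroup S) (hZ : ∀ z ∈ Z, ∀ v : V, ∃ k : ZMod p, z • v = k • v) :
    Nat.card {W : Submodule (ZMod p) V // Module.finrank (ZMod p) W = 2} * Nat.card Z ∣
      Nat.card S := by
  classical
  let X := {W : Submodule (ZMod p) V // Module.finrank (ZMod p) W = 2}
  let act : MulAction S X :=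
    { smul := fun s W => ⟨W.1.map ((DistribMulAction.toLinearEquiv (ZMod p) V s : V ≃ₗ[ZMod p] V) :
          V →ₗ[ZMod p] V), by rw [LinearEquiv.finrank_map_eq]; exact W.2⟩
      one_smul := fun W => Subtype.ext (by
        ext v
        show v ∈ Submodule.map _ _ ↔ _
        simp)
      mul_smul := fun s t W => Subtype.ext (by
        ext v
        show v ∈ Submodule.map _ _ ↔ v ∈ Submodule.map _ (Submodule.map _ _)
        simp [mul_smul]) }
  have hmem : ∀ (s : S) (W : X) (v : V), v ∈ (s • W).1 ↔ ∃ w ∈ W.1, s • w = v := fun s W v => Iff.rfl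
  have hXne : Nonempty X := by
    by_contra hcon
    rw [not_nonempty_iff] at hcon
    have h1 := card_planes (p := p) (V := V) hV hn
    have h2 : Nat.card {W : Submodule (ZMod p) V // Module.finrank (ZMod p) W = 2} = 0 :=
      Nat.card_of_isEmpty
    rw [h2, zero_mul] at h1
    have hp2 := hpF.out.two_le
    have h3 : p ^ 2 ≤ p ^ n := Nat.pow_le_pow_right hpF.out.pos hn
    have h4 : p * 2 ≤ p ^ 2 := by rw [pow_two]; exact Nat.mul_le_mul_left _ hp2
    have : 0 < (p ^ n - 1) * (p ^ n - p) := Nat.mul_pos (by omega) (by omega)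
    omega
  obtain ⟨U0⟩ := hXne
  have : Finite X := inferInstance
  have horb : MulAction.orbit S U0 = Set.univ := by
    rw [Set.eq_univ_iff_forall]
    intro W
    obtain ⟨s, hs⟩ := hT2 U0.1 W.1 U0.2 W.2
    refine ⟨s, Subtype.ext ?_⟩
    apply Submodule.eq_of_le_of_finrank_eq
    · intro v hv
      obtain ⟨w, hw, rfl⟩ := (hmem s U0 v).mp hv
      exact hs w hw
    · rw [W.2]; exact (s • U0).2
  have hcard : Nat.card X * Nat.card (MulAction.stabilizer S U0) = Nat.card S := by
    have h1 := Subgroup.card_mul_index (MulAction.stabilizer S U0)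
    rw [MulAction.index_stabilizer, horb, Set.ncard_univ, mul_comm] at h1
    exact h1
  rw [← hcard]
  apply Nat.mul_dvd_mul_left
  apply Subgroup.card_dvd_of_le
  intro z hz
  rw [MulAction.mem_stabilizer_iff]
  apply Subtype.ext
  apply Submodule.eq_of_le_of_finrank_eq
  · intro v hv
    obtain ⟨w, hw, rfl⟩ := (hmem z U0 v).mp hv
    obtain ⟨k, hk⟩ := hZ z hz w
    rw [hk]
    exact U0.1.smul_mem k hw
  · rw [U0.2]; exact (z • U0).2

end Count

section Main

variable {p n : ℕ} [hpF : Fact p.Prime] {V : Type*} [AddCommGroup V] [Module (ZMod p) V] [Finite V]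
  {H : Type*} [Group H] [Finite H] [DistribMulAction H V] [SMulCommClass H (ZMod p) V]

/-- The group generated by `H` and the scalars, as the image of a homomorphism. -/
noncomputable def Phi (p : ℕ) (V : Type*) [AddCommGroup V] [Module (ZMod p) V]
    (H : Type*) [Group H] [DistribMulAction H V] [SMulCommClass H (ZMod p) V] :
    H × (ZMod p)ˣ →* (V ≃ₗ[ZMod p] V) :=
  (DistribMulAction.toModuleAut (ZMod p) V).noncommCoprod (DistribMulAction.toModuleAut (ZMod p) V)
    (by
      intro h k
      apply LinearEquiv.ext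
      intro v
      show h • (k • v) = k • (h • v)
      rw [Units.smul_def, Units.smul_def]
      exact smul_comm h (k : ZMod p) v)

omit [Finite V] [Finite H] in
theorem Phi_apply (h : H) (k : (ZMod p)ˣ) (v : V) : Phi p V H (h, k) v = h • ((k : ZMod p) • v) := rfl

theorem main [FaithfulSMul H V] (hsol : Group.IsSolvable H) (hV : Module.finrank (ZMod p) V = n)
    (hn : 3 ≤ n)
    (hT1 : ∀ v w : V, v ≠ 0 → w ≠ 0 → ∃ (h : H) (k : ZMod p), h • v = k • w)
    (hT2 : ∀ U W : Submodule (ZMod p) V, Module.finrank (ZMod p) U = 2 →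
      Module.finrank (ZMod p) W = 2 → ∃ h : H, ∀ u ∈ U, h • u ∈ W) :
    (n = 3 ∨ (n = 5 ∧ p = 2)) ∧
    (∃ θ : V ≃+ GaloisField p n, ∀ h : H,
      ∃ (c : (GaloisField p n)ˣ) (φ : GaloisField p n ≃+* GaloisField p n),
        ∀ v : V, θ (h • v) = c * φ (θ v)) ∧
    Nat.card H ∣ n * (p ^ n - 1) ∧
    (p = 2 → (2 ^ n - 1) ∣ Nat.card H ∧ (n = 5 → Nat.card H = 155)) := by
  classical
  have hp := hpF.out
  have hp2 := hp.two_le
  have hVc : Nat.card V = p ^ n := by
    rw [Module.natCard_eq_pow_finrank (K := ZMod p) (V := V), Nat.card_zmod, hV]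
  have hVnt : Nontrivial V := by
    rw [← Finite.one_lt_card_iff_nontrivial, hVc]
    exact Nat.one_lt_pow (by omega) hp.one_lt
  have hpV : ∀ v : V, p • v = 0 := by
    intro v
    rw [← Nat.cast_smul_eq_nsmul (ZMod p), ZMod.natCast_self, zero_smul]
  let Φ := Phi p V H
  let S : Subgroup (V ≃ₗ[ZMod p] V) := Φ.range
  have hGLfin : Finite (V ≃ₗ[ZMod p] V) :=
    Finite.of_injective (fun f : V ≃ₗ[ZMod p] V => (f : V → V)) DFunLike.coe_injective
  have hSfin : Finite S := inferInstance
  have hSsol : Group.IsSolvable S :=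
    Group.isSolvable_of_surjective (f := Φ.rangeRestrict) Φ.rangeRestrict_surjective
  have hsm : ∀ (s : S) (v : V), s • v = (s : V ≃ₗ[ZMod p] V) v := fun s v => rfl
  have hSt : ∀ v w : V, v ≠ 0 → w ≠ 0 → ∃ s : S, s • v = w := by
    intro v w hv hw
    obtain ⟨h, k, hk⟩ := hT1 v w hv hw
    have hk0 : k ≠ 0 := by
      rintro rfl
      rw [zero_smul] at hk
      apply hv
      have := congrArg (fun t => h⁻¹ • t) hk
      simpa using this
    refine ⟨⟨Φ (h, Units.mk0 k⁻¹ (inv_ne_zero hk0)), ⟨_, rfl⟩⟩, ?_⟩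
    rw [hsm]
    show h • ((k⁻¹ : ZMod p) • v) = w
    rw [smul_comm, hk, smul_smul, inv_mul_cancel₀ hk0, one_smul]
  have hSH : Nat.card S ∣ Nat.card H * (p - 1) := by
    have h1 : Nat.card S ∣ Nat.card (H × (ZMod p)ˣ) := Subgroup.card_range_dvd Φ
    rwa [Nat.card_prod, Nat.card_units, Nat.card_zmod] at h1
  -- the scalars
  let ψ : (ZMod p)ˣ →* S := Φ.rangeRestrict.comp (MonoidHom.inr H (ZMod p)ˣ)
  have hψ : ∀ (k : (ZMod p)ˣ) (v : V), ψ k • v = (k : ZMod p) • v := by
    intro k v
    show (1 : H) • ((k : ZMod p) • v) = _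
    rw [one_smul]
  have hψi : Function.Injective ψ := by
    intro k l hkl
    obtain ⟨v, hv⟩ := exists_ne (0 : V)
    have h1 : (k : ZMod p) • v = (l : ZMod p) • v := by rw [← hψ, ← hψ, hkl]
    exact Units.ext (smul_left_injective _ hv h1)
  let Z : Subgroup S := ψ.range
  have hZc : Nat.card Z = p - 1 := by
    rw [← Nat.card_congr (MonoidHom.ofInjective hψi).toEquiv, Nat.card_units, Nat.card_zmod]
  have hZs : ∀ z ∈ Z, ∀ v : V, ∃ k : ZMod p, z • v = k • v := by
    rintro _ ⟨k, rfl⟩ v
    exact ⟨k, hψ k v⟩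
  set N2 := Nat.card {W : Submodule (ZMod p) V // Module.finrank (ZMod p) W = 2} with hN2
  have hN2e : N2 * ((p ^ 2 - 1) * (p ^ 2 - p)) = (p ^ n - 1) * (p ^ n - p) :=
    card_planes hV (by omega)
  have hN2S : N2 * (p - 1) ∣ Nat.card S := by
    rw [← hZc]
    refine card_planes_dvd hV (by omega) ?_ Z hZs
    intro U W hU hW
    obtain ⟨h, hh⟩ := hT2 U W hU hW
    refine ⟨⟨Φ (h, 1), ⟨_, rfl⟩⟩, fun u hu => ?_⟩
    rw [hsm]
    show h • (((1 : (ZMod p)ˣ) : ZMod p) • u) ∈ W
    rw [Units.val_one, one_smul]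
    exact hh u hu
  have hN1S : (p ^ n - 1) ∣ Nat.card S := by
    obtain ⟨v0, hv0⟩ := exists_ne (0 : V)
    have horb : MulAction.orbit S v0 = {0}ᶜ := by
      ext w
      constructor
      · rintro ⟨s, rfl⟩ h0
        apply hv0
        have h1 : s • v0 = 0 := h0
        have := congrArg (fun t => s⁻¹ • t) h1
        simpa using this
      · intro hw
        obtain ⟨s, hs⟩ := hSt v0 w hv0 hw
        exact ⟨s, hs⟩
    have h1 := MulAction.index_stabilizer S v0
    rw [horb, Set.ncard_compl, Set.ncard_singleton, hVc] at h1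
    rw [← h1]
    exact Subgroup.index_dvd_card _
  have hp1 : 0 < p - 1 := by omega
  by_cases hcase : p ≠ 2 ∧ Even n
  · exfalso
    refine LinPrim.no_even (H := H) hn hcase.2 hcase.1 hVc (hN1S.trans hSH) ?_
    rw [← hN2e]
    apply Nat.mul_dvd_mul_right
    exact Nat.dvd_of_mul_dvd_mul_right hp1 (hN2S.trans hSH)
  have hneg : p ≠ 2 → ∀ x y : S, ¬ ∀ v : V, (x * y * x⁻¹ * y⁻¹) • v = -v := by
    intro hp2' x y hxy
    have hodd : Odd n := by
      rw [← Nat.not_even_iff_odd]
      exact fun h => hcase ⟨hp2', h⟩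
    have h1 : LinearEquiv.det ((x * y * x⁻¹ * y⁻¹ : S) : V ≃ₗ[ZMod p] V) = 1 := by
      push_cast
      rw [map_mul, map_mul, map_mul, map_inv, map_inv]
      rw [mul_comm (LinearEquiv.det (x : V ≃ₗ[ZMod p] V))]
      group
    have h2 : (((x * y * x⁻¹ * y⁻¹ : S) : V ≃ₗ[ZMod p] V) : V →ₗ[ZMod p] V) =
        (-1 : ZMod p) • LinearMap.id := by
      ext v
      have := hxy v
      rw [hsm] at this
      simpa using this
    have h3 := congrArg Units.val h1
    rw [LinearEquiv.coe_det, h2, LinearMap.det_smul, LinearMap.det_id, hV, hodd.neg_one_pow,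
      mul_one, Units.val_one] at h3
    have h4 : ((2 : ℕ) : ZMod p) = 0 := by
      push_cast
      linear_combination -h3
    rw [ZMod.natCast_eq_zero_iff] at h4
    exact hp2' ((Nat.prime_dvd_prime_iff_eq hp Nat.prime_two).mp h4)
  obtain ⟨f, θ, hf, hθ⟩ := SolvTrans.exists_galois p hpV hSsol hneg hSt
  have hfn : f = n := by
    rw [hVc] at hf
    exact (Nat.pow_right_injective hp.two_le hf).symm
  subst hfn
  have hSd : Nat.card S ∣ f * (p ^ f - 1) := card_dvd_of_semilinear (by omega) θ hθ
  have hθH : ∀ h : H, ∃ (c : (GaloisField p f)ˣ) (φ : GaloisField p f ≃+* GaloisField p f),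
        ∀ v : V, θ (h • v) = c * φ (θ v) := by
    intro h
    obtain ⟨c, φ, hc⟩ := hθ ⟨Φ (h, 1), ⟨_, rfl⟩⟩
    refine ⟨c, φ, fun v => ?_⟩
    rw [← hc v, hsm]
    congr 1
    show h • v = h • (((1 : (ZMod p)ˣ) : ZMod p) • v)
    rw [Units.val_one, one_smul]
  have hHd : Nat.card H ∣ f * (p ^ f - 1) := card_dvd_of_semilinear (by omega) θ hθH
  refine ⟨?_, ⟨θ, hθH⟩, hHd, ?_⟩
  · by_cases h3 : f = 3
    · exact Or.inl h3
    · right
      obtain ⟨t, ht⟩ := hN2S.trans hSd
      apply arith hp (n := f) (s := t) (by omega)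
      have e1 : p ^ f - p = p * (p ^ (f - 1) - 1) := by
        rw [Nat.mul_sub, mul_one, ← pow_succ', show f - 1 + 1 = f by omega]
      have e2 : p ^ 2 - p = p * (p - 1) := by rw [Nat.mul_sub, mul_one, pow_two]
      rw [e1, e2] at hN2e
      have hpf : 0 < p ^ f - 1 := by
        have : p ^ 1 ≤ p ^ f := Nat.pow_le_pow_right hp.pos (by omega)
        rw [pow_one] at this
        omega
      have h5 : (p ^ f - 1) * p * ((p ^ (f - 1) - 1) * t) = (p ^ f - 1) * p * (f * (p ^ 2 - 1)) := by
        calc (p ^ f - 1) * p * ((p ^ (f - 1) - 1) * t)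
            = ((p ^ f - 1) * (p * (p ^ (f - 1) - 1))) * t := by ring
          _ = N2 * ((p ^ 2 - 1) * (p * (p - 1))) * t := by rw [hN2e]
          _ = (N2 * (p - 1) * t) * ((p ^ 2 - 1) * p) := by ring
          _ = (f * (p ^ f - 1)) * ((p ^ 2 - 1) * p) := by rw [ht]
          _ = (p ^ f - 1) * p * (f * (p ^ 2 - 1)) := by ring
      exact Nat.eq_of_mul_eq_mul_left (Nat.mul_pos hpf hp.pos) h5
  · intro h2
    subst h2
    rw [show 2 - 1 = 1 from rfl, mul_one] at hSH hN2S
    refine ⟨hN1S.trans hSH, ?_⟩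
    intro h5
    subst h5
    norm_num at hN2e hHd
    have h6 : N2 = 155 := by omega
    rw [h6] at hN2S
    exact Nat.dvd_antisymm hHd (hN2S.trans hSH)

end Main

end Cfsg.Agent.H501.LinTrans
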