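import Cfsg.Agent.H501.EqOrderG
import Cfsg.Agent.PLocal.Constrained
set_option linter.all false

/-!
# Finite groups in which any two `p`-subgroups of the same order are conjugate: normal subgroups
-/

set_option autoImplicit false

namespace Cfsg.Agent.H501

open Subgroup

variable {G : Type*} [Group G] [Finite G] {p : ℕ} [hp : Fact p.Prime]

/-- A normal subgroup of order divisible by `p` contains all elements of order `p`. -/
theorem EqConj.mem_of_normal (hC : EqConj p G) (L : Subgroup G) [hL : L.Normal] (hd : p ∣ Nat.card L)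
    (x : G) (hx : x ^ p = 1) : x ∈ L := by
  by_cases hx1 : x = 1
  · rw [hx1]; exact L.one_mem
  obtain ⟨⟨y, hy⟩, hyo⟩ := exists_prime_orderOf_dvd_card' p hd
  have hyo' : orderOf y = p := by
    rw [← hyo]; exact (orderOf_mk y hy).symm
  have hxo : orderOf x = p := orderOf_eq_prime hx hx1
  obtain ⟨g, hg⟩ := hC (zpowers y) (zpowers x)
    (IsPGroup.of_card (n := 1) (by rw [Nat.card_zpowers, hyo', pow_one]))
    (IsPGroup.of_card (n := 1) (by rw [Nat.card_zpowers, hxo, pow_one]))
    (by rw [Nat.card_zpowers, Nat.card_zpowers, hyo', hxo])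
  have h1 : x ∈ (zpowers y).map (MulAut.conj g).toMonoidHom := by
    rw [← hg]; exact mem_zpowers x
  obtain ⟨w, hw, rfl⟩ := h1
  exact hL.conj_mem w ((zpowers_le.mpr hy) hw) g

/-- If `L = Z P` is normal in `G` with `Z` a normal `p'`-subgroup and `P` a Sylow `p`-subgroup of `G`, then
all elements of order `p` of `P` are central in `P`. -/
theorem EqConj.central_of_normal (hC : EqConj p G) (P : Sylow p G) (Z L : Subgroup G) [hZ : Z.Normal]
    [hL : L.Normal] (hZc : (Nat.card Z).Coprime p) (hPL : (P : Subgroup G) ≤ L)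
    (hL' : L ≤ (P : Subgroup G) ⊔ Z) (hP1 : (P : Subgroup G) ≠ ⊥)
    (x : G) (hxP : x ∈ (P : Subgroup G)) (hx : x ^ p = 1) :
    ∀ y ∈ (P : Subgroup G), x * y = y * x := by
  by_cases hx1 : x = 1
  · intro y _; rw [hx1, one_mul, mul_one]
  have hnt : Nontrivial (P : Subgroup G) := (Subgroup.nontrivial_iff_ne_bot _).mpr hP1
  obtain ⟨⟨a, ha⟩, ha1, hap, hac⟩ := exists_central P.isPGroup' hnt
  have ha1' : a ≠ 1 := fun h => ha1 (Subtype.ext h)
  have hap' : a ^ p = 1 := congrArg Subtype.val hap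
  have hac' : ∀ y ∈ (P : Subgroup G), a * y = y * a := fun y hy => congrArg Subtype.val (hac ⟨y, hy⟩)
  have hao : orderOf a = p := orderOf_eq_prime hap' ha1'
  have hxo : orderOf x = p := orderOf_eq_prime hx hx1
  obtain ⟨g, hg⟩ := hC (zpowers a) (zpowers x)
    (IsPGroup.of_card (n := 1) (by rw [Nat.card_zpowers, hao, pow_one]))
    (IsPGroup.of_card (n := 1) (by rw [Nat.card_zpowers, hxo, pow_one]))
    (by rw [Nat.card_zpowers, Nat.card_zpowers, hao, hxo])
  rw [MonoidHom.map_zpowers] at hg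
  have hgx : g * a * g⁻¹ ∈ zpowers x := by
    rw [hg]; exact mem_zpowers _
  have hgP : g * a * g⁻¹ ∈ (P : Subgroup G) := (zpowers_le.mpr hxP) hgx
  -- Frattini
  have hfr : normalizer ((P : Subgroup G) : Set G) ⊔ L = ⊤ := by
    have := Sylow.normalizer_sup_eq_top (P.subtype hPL)
    have h2 : ((P.subtype hPL : Sylow p L) : Subgroup L).map L.subtype = (P : Subgroup G) := by
      rw [Sylow.coe_subtype, Subgroup.map_subgroupOf_eq_of_le hPL]
    rw [h2] at this
    exact this
  have hNL : normalizer ((P : Subgroup G) : Set G) ≤ normalizer (L : Set G) := by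
    rw [Subgroup.normalizer_eq_top L]; exact le_top
  obtain ⟨l, hl, n, hn, hgln⟩ := Solvable.Glauberman.exists_mul_of_mem_sup _ _ hNL
    (show g ∈ normalizer ((P : Subgroup G) : Set G) ⊔ L from hfr ▸ mem_top g)
  have hPZ : (P : Subgroup G) ≤ normalizer (Z : Set G) := by
    rw [Subgroup.normalizer_eq_top Z]; exact le_top
  obtain ⟨z, hz, q, hq, hlzq⟩ := Solvable.Glauberman.exists_mul_of_mem_sup _ _ hPZ (hL' hl)
  set b : G := n * a * n⁻¹ with hb
  have hbP : b ∈ (P : Subgroup G) := (mem_normalizer_iff.mp hn a).mp ha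
  have hbc : ∀ y ∈ (P : Subgroup G), b * y = y * b := by
    intro y hy
    have h1 : n⁻¹ * y * n⁻¹⁻¹ ∈ (P : Subgroup G) := (mem_normalizer_iff.mp (inv_mem hn) y).mp hy
    have h2 := hac' _ h1
    calc b * y = n * (a * (n⁻¹ * y * n⁻¹⁻¹)) * n⁻¹ := by rw [hb]; group
      _ = n * ((n⁻¹ * y * n⁻¹⁻¹) * a) * n⁻¹ := by rw [h2]
      _ = y * b := by rw [hb]; group
  have h3 : g * a * g⁻¹ = z * b * z⁻¹ := by
    have h4 : q * b * q⁻¹ = b := by rw [← hbc q hq, mul_inv_cancel_right]
    calc g * a * g⁻¹ = z * (q * b * q⁻¹) * z⁻¹ := by rw [hgln, hlzq, hb]; group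
      _ = z * b * z⁻¹ := by rw [h4]
  have h5 : z * b * z⁻¹ = b := by
    have h6 : z * b * z⁻¹ * b⁻¹ ∈ (P : Subgroup G) := mul_mem (h3 ▸ hgP) (inv_mem hbP)
    have h7 : z * b * z⁻¹ * b⁻¹ ∈ Z := by
      have : z * b * z⁻¹ * b⁻¹ = z * (b * z⁻¹ * b⁻¹) := by group
      rw [this]
      exact mul_mem hz (hZ.conj_mem _ (inv_mem hz) b)
    have h8 : Disjoint (P : Subgroup G) Z := by
      apply Subgroup.disjoint_of_coprime_natCard
      obtain ⟨k, hk⟩ := IsPGroup.iff_card.mp P.isPGroup'
      rw [hk]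
      exact (hZc.pow_right k).symm
    have h9 : z * b * z⁻¹ * b⁻¹ = 1 := by
      have := h8.le_bot (mem_inf.mpr ⟨h6, h7⟩)
      simpa using this
    exact mul_inv_eq_one.mp h9
  rw [h3, h5] at hgx
  have hbo : orderOf b = p := by
    rw [hb, ← hao]
    exact orderOf_injective (MulAut.conj n).toMonoidHom (MulAut.conj n).injective a
  have h10 : zpowers b = zpowers x := by
    apply eq_of_le_of_card_ge (zpowers_le.mpr hgx)
    rw [Nat.card_zpowers, Nat.card_zpowers, hbo, hxo]
  have h11 : x ∈ zpowers b := h10 ▸ mem_zpowers x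
  obtain ⟨k, rfl⟩ := mem_zpowers_iff.mp h11
  intro y hy
  have : Commute b y := hbc y hy
  exact this.zpow_left k

/-- If a normal `p`-solvable subgroup has order divisible by `p` and a Sylow `p`-subgroup has exponent
`p`, it is commutative. -/
theorem EqConj.comm_of_pSolvable (hC : EqConj p G) (P : Sylow p G) (H : Subgroup G) [hH : H.Normal]
    (hsolv : Cfsg.IsPSolvable p H) (hdiv : p ∣ Nat.card H)
    (hexp : ∀ a ∈ (P : Subgroup G), a ^ p = 1) :
    ∀ x ∈ (P : Subgroup G), ∀ y ∈ (P : Subgroup G), x * y = y * x := by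
  by_cases hP1 : (P : Subgroup G) = ⊥
  · intro x hx y _
    rw [hP1, mem_bot] at hx
    rw [hx, one_mul, mul_one]
  let S : Set (Subgroup G) := {Z | Z.Normal ∧ Z ≤ H ∧ (Nat.card Z).Coprime p}
  obtain ⟨Z, ⟨hZn, hZH, hZc⟩, hZmax⟩ := Set.exists_max_image S (fun Z : Subgroup G => Nat.card Z)
    (Set.toFinite S) ⟨⊥, inferInstance, bot_le, by rw [Subgroup.card_bot]; exact Nat.coprime_one_left p⟩
  have hlt : Z < H := by
    refine lt_of_le_of_ne hZH ?_
    rintro rfl
    exact (Nat.Prime.coprime_iff_not_dvd hp.out).mp hZc.symm hdiv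
  obtain ⟨L, hLn, hZL, hLH, hstep⟩ := PLocal.Constrained.exists_normal_step Z H hZn hH hlt hsolv
  have hcard : Nat.card Z * Z.relIndex L = Nat.card L := by
    have := Subgroup.relIndex_mul_relIndex ⊥ Z L bot_le hZL.le
    rwa [Subgroup.relIndex_bot_left, Subgroup.relIndex_bot_left] at this
  have hltc : Nat.card Z < Nat.card L := by
    by_contra hle
    exact hZL.ne (eq_of_le_of_card_ge hZL.le (not_lt.mp hle))
  rcases hstep with ⟨m, hm⟩ | hcop
  · have hm0 : m ≠ 0 := by
      rintro rfl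
      rw [hm, pow_zero, mul_one] at hcard
      exact hltc.ne hcard
    have hpL : p ∣ Nat.card L := by
      rw [← hcard, hm]
      exact dvd_mul_of_dvd_right (dvd_pow_self p hm0) _
    have hPL : (P : Subgroup G) ≤ L := fun a ha => hC.mem_of_normal L hpL a (hexp a ha)
    have hLe : L ≤ (P : Subgroup G) ⊔ Z := by
      have hsup : (P : Subgroup G) ⊔ Z ≤ L := sup_le hPL hZL.le
      have h1 : p ^ m ∣ Nat.card (P : Subgroup G) := by
        apply P.pow_dvd_card_of_pow_dvd_card
        refine dvd_trans ?_ (Subgroup.card_subgroup_dvd_card L)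
        rw [← hcard, hm]
        exact dvd_mul_left _ _
      have h2 : Nat.card Z * p ^ m ∣ Nat.card ((P : Subgroup G) ⊔ Z : Subgroup G) := by
        apply Nat.Coprime.mul_dvd_of_dvd_of_dvd (hZc.pow_right m)
        · exact Subgroup.card_dvd_of_le le_sup_right
        · exact h1.trans (Subgroup.card_dvd_of_le le_sup_left)
      rw [← hm, hcard] at h2
      exact (eq_of_le_of_card_ge hsup (Nat.le_of_dvd Nat.card_pos h2)).ge
    exact fun x hx => hC.central_of_normal P Z L hZc hPL hLe hP1 x hx (hexp x hx)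
  · exfalso
    have := hZmax L ⟨hLn, hLH, by rw [← hcard]; exact Nat.Coprime.mul_left hZc hcop⟩
    exact absurd hltc (not_lt.mpr this)

end Cfsg.Agent.H501
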