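import Mathlib
import Cfsg.Agent.H176.SSDet
import Cfsg.Agent.H186.Unitary
import Cfsg.Prelude.Def_Classical
import Cfsg.Agent.H469.RowPSL_m3
import Cfsg.Agent.H501.RowPSL
import Cfsg.Agent.H127.UnitSinger
import Cfsg.Agent.H127.UnitRoots
import Cfsg.Agent.H183.SemisSU
import Cfsg.Agent.H103.UniBlock
import Cfsg.Agent.H610.TableAlt_m3
import Cfsg.Agent.Prune
set_option linter.all false
prune_inst 0x7fffbdfbfbfe9bffdfff7e77feddddfc3ad59fffacdffd4bffea69ffabdf339a09cd638d09e038fe1e96c23410a87843f97eeeffea6bdc7ffffdfff41ffbee4ff5f7b508519488340fb42ffe03f07f8e7f3fffffffffffffffffffffffffffbeffbfffffffff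
open scoped Cfsg.Agent.FastGrp

-- part: H176/SSCount
section
set_option autoImplicit false

/-!
Counting classes of elements of order prime to `p` by characteristic polynomials.

* `card_classes`: abstract bijection between the classes of `p'`-elements and a set of polynomials;
* `exists_mat`: every monic polynomial is a characteristic polynomial;
* `coeffEquiv`: monic polynomials of degree `n` and their coefficients;
* `card_monic_coeff_zero`, `card_monic_coeff_ne_zero`.
-/

namespace Cfsg.Agent.H176.SSCount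

open Polynomial

section
variable {F : Type*} [Field F]

end

end Cfsg.Agent.H176.SSCount
end

-- part: H176/SUDag
section
set_option autoImplicit false
set_option linter.unusedSectionVars false

/-!
Characteristic polynomials of unitary matrices of order prime to the characteristic, and conjugacy in
the special unitary group.

* `SelfDag σ f`: the reverse of the conjugate of `f` is a scalar multiple of `f`;
* `selfDag_charpoly`: unitary matrices have self-dual characteristic polynomials;
* `exists_unitary`: every self-dual monic polynomial with non-zero constant term is the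
  characteristic polynomial of a unitary matrix of order prime to the characteristic;
* `exists_det`: the centraliser in the unitary group of such a matrix has elements of every
  determinant of norm one;
* `su_conj`: two such matrices with the same characteristic polynomial are conjugate by a unitary
  matrix of determinant one.
-/

namespace Cfsg.Agent.H176.SUDag

open Polynomial Matrix H186

variable {K : Type*} [Field K]

variable [Fintype K] {q : ℕ} {ι : Type*} [Fintype ι] [DecidableEq ι]

omit [Fintype ι] [DecidableEq ι] [Fintype K] in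
theorem st_eq (σ : K →+* K) (hσ : ∀ x, σ x = x ^ q) (A : Matrix ι ι K) :
    st q A = (A.map σ)ᵀ := by
  ext i j
  rw [st_apply, transpose_apply, map_apply, hσ]

omit [Fintype K] in
theorem st_charpoly (σ : K →+* K) (hσ : ∀ x, σ x = x ^ q) (A : Matrix ι ι K) :
    (st q A).charpoly = A.charpoly.map σ := by
  rw [st_eq σ hσ, charpoly_transpose, charpoly_map]

end Cfsg.Agent.H176.SUDag
end

-- part: H176/SUConj
section
set_option autoImplicit false
set_option linter.unusedSectionVars false

/-!
Conjugacy of elements of order prime to the characteristic in the special unitary group: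
`exists_det` (determinants on the centraliser in the unitary group) and `su_conj`.
-/

namespace Cfsg.Agent.H176.SUConj

open Polynomial Matrix H186 SUDag

variable {K : Type*} [Field K] [Fintype K] {q : ℕ} {ι : Type*} [Fintype ι] [DecidableEq ι]

end Cfsg.Agent.H176.SUConj
end

-- part: H176/SUMem
section
set_option autoImplicit false
set_option linter.unusedSectionVars false

/-!
`SU n K q` in terms of matrices, conjugacy of its elements of order prime to the characteristic
(`su_isConj`), and the number of self-dual polynomials (`card_selfDag`).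
-/

namespace Cfsg.Agent.H176.SUMem

open Polynomial Matrix H186 SUDag

section Grp

variable {K : Type*} [Field K] [Fintype K] {q n : ℕ}

theorem exists_mk (hK : Fintype.card K = q ^ 2) {M : Matrix (Fin n) (Fin n) K} (hM : st q M * M = 1)
    (hdet : M.det = 1) : ∃ s : ↥(Cfsg.SU n K q),
      ((s : Matrix.SpecialLinearGroup (Fin n) K) : Matrix (Fin n) (Fin n) K) = M := by
  let s : Matrix.SpecialLinearGroup (Fin n) K := ⟨M, hdet⟩
  have hs : s ∈ Cfsg.SU n K q := by
    intro u v
    have h1 : (⟨M, st q M, mul_eq_one_comm.1 hM, hM⟩ : GL (Fin n) K) ∈ Cfsg.GU n K q :=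
      (mem_GU_iff_st hK _).2 hM
    exact h1 u v
  exact ⟨⟨s, hs⟩, rfl⟩

end Grp

section Count

variable {K : Type*} [Field K]

end Count

end Cfsg.Agent.H176.SUMem
end

-- part: H501/RowPSU
section
/-!
# Table T(S, p), `S = PSU_n(q)`

`p` odd, `p ∣ |PSU_n(q)|`, `n ≥ 3`: a real element of order `p`, or cyclic Sylow `p`-subgroups.
-/

set_option autoImplicit false

namespace Cfsg.Agent.H501.RowPSU

open Matrix Polynomial Cfsg.Agent.H722.RealP Cfsg.Agent.H501.RealGen Cfsg.Agent.H501.RowPSL
open Cfsg.Agent.H186 Cfsg.Agent.H127.UnitRoots Cfsg.Agent.H103.UniBlock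

/-- The characteristic polynomial of the `p ^ k`-th power. -/
theorem charpoly_pow_expand {K : Type*} [Field K] {ι : Type*} [Fintype ι] [DecidableEq ι] (p : ℕ) [Fact p.Prime]
    [CharP K p] (k : ℕ) (M : Matrix ι ι K) :
    expand K (p ^ k) (M ^ p ^ k).charpoly = M.charpoly ^ p ^ k := by
  rcases (isEmpty_or_nonempty ι) with _ | _
  · rw [Matrix.charpoly, Matrix.charpoly, det_isEmpty, det_isEmpty, one_pow, map_one]
  unfold Matrix.charpoly
  rw [AlgHom.map_det, ← coe_detMonoidHom, ← (detMonoidHom : Matrix ι ι K[X] →* K[X]).map_pow]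
  apply congr_arg det
  refine matPolyEquiv.injective ?_
  rw [map_pow, matPolyEquiv_charmatrix, sub_pow_char_pow_of_commute, ← C_pow]
  · exact matPolyEquiv_eq_X_pow_sub_C (p ^ k) M
  · exact (C M).commute_X

theorem charpoly_pow_map {K : Type*} [Field K] {ι : Type*} [Fintype ι] [DecidableEq ι] (p : ℕ) [hp : Fact p.Prime]
    [CharP K p] (k : ℕ) (σ : K →+* K) (hσ : ∀ x, σ x = x ^ p ^ k) (M : Matrix ι ι K) :
    (M ^ p ^ k).charpoly = M.charpoly.map σ := by
  apply expand_injective (R := K) (n := p ^ k) (pow_pos hp.out.pos k)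
  rw [charpoly_pow_expand, ← map_iterateFrobenius_expand p M.charpoly k, ← map_expand]
  congr 2
  ext x
  rw [hσ]
  rfl

section

variable {F : Type*} [Field F] [Fintype F] {n q : ℕ}

theorem st_mat (hF : Fintype.card F = q ^ 2) (g : Cfsg.SU n F q) : st q (mat g) * mat g = 1 := by
  have hq : q ≠ 0 := by
    rintro rfl
    have := Fintype.card_pos (α := F)
    rw [hF] at this
    simp at this
  have h1 := congrArg transpose (mat_unit g hq)
  rw [transpose_mul, transpose_transpose, transpose_one] at h1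
  exact h1

omit [Fintype F] in
theorem mat_inj {g h : Cfsg.SU n F q} (e : mat g = mat h) : g = h := Subtype.ext (Subtype.ext e)

omit [Fintype F] in
theorem mat_one : mat (1 : Cfsg.SU n F q) = 1 := rfl

theorem st_mat_inv (hF : Fintype.card F = q ^ 2) (g : Cfsg.SU n F q) : st q (mat g) = mat g⁻¹ := by
  have h1 := st_mat hF g
  have h2 : mat g * mat g⁻¹ = 1 := by rw [← mat_mul, mul_inv_cancel, mat_one]
  calc st q (mat g) = st q (mat g) * (mat g * mat g⁻¹) := by rw [h2, mul_one]
    _ = mat g⁻¹ := by rw [← mul_assoc, h1, one_mul]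

theorem exists_q (hF : Fintype.card F = q ^ 2) : ∃ r f : ℕ, ∃ _ : Fact r.Prime, CharP F r ∧ q = r ^ f ∧ 0 < f := by
  obtain ⟨r, hr, hrc⟩ := exists_char F
  obtain ⟨k, -, hk⟩ := FiniteField.card F r
  rw [hF] at hk
  have h1 : q ∣ r ^ (k : ℕ) := by rw [← hk]; exact Dvd.intro_left _ (sq q).symm
  obtain ⟨f, -, hf⟩ := (Nat.dvd_prime_pow hr.out).1 h1
  refine ⟨r, f, hr, hrc, hf, Nat.pos_of_ne_zero ?_⟩
  rintro rfl
  rw [pow_zero] at hf
  rw [hf, one_pow] at hk
  have := Nat.one_lt_pow k.ne_zero hr.out.one_lt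
  omega

/-- An element of order `p` of `SU_n(q)` with the characteristic polynomial of its inverse is real. -/
theorem hasReal_of_charpoly (hF : Fintype.card F = q ^ 2) {p : ℕ} [hp : Fact p.Prime] (hpF : ¬ p ∣ Nat.card F)
    {x : Cfsg.SU n F q} (hx : x ^ p = 1) (hx1 : x ≠ 1) (h : (mat x).charpoly = (mat x⁻¹).charpoly) :
    HasReal p (Cfsg.SU n F q) := by
  obtain ⟨r, hr, hrc⟩ := exists_char F
  have hpr : p.Coprime r := char_coprime hpF
  have ho : orderOf x = p := orderOf_eq_prime hx hx1
  exact hasReal_of_conj hp.out hx hx1 (Cfsg.Agent.H183.Semis.su_isConj hF r x x⁻¹ (by rw [ho]; exact hpr)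
    (by rw [orderOf_inv, ho]; exact hpr) h)

/-- `q ^ 2` of even order mod `p` -/
theorem hasReal_even (hF : Fintype.card F = q ^ 2) {p : ℕ} [hp : Fact p.Prime] (hpF : ¬ p ∣ Nat.card F) {k : ℕ}
    (he : orderOf (Nat.card F : ZMod p) = 2 * k) {x : Cfsg.SU n F q} (hx : x ^ p = 1) (hx1 : x ≠ 1) :
    HasReal p (Cfsg.SU n F q) := by
  have hk : 0 < k := by
    have := order_pos hpF
    omega
  refine hasReal_of_charpoly hF hpF hx hx1 ?_
  have h1 : x⁻¹ = x ^ (Fintype.card F ^ k) := by
    rw [inv_eq_iff_mul_eq_one, ← pow_succ']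
    have := dvd_half he hk
    rw [Nat.card_eq_fintype_card] at this
    rw [← orderOf_dvd_iff_pow_eq_one, orderOf_eq_prime hx hx1]
    exact this
  rw [h1, mat_pow, Cfsg.Agent.H176.SSDet.charpoly_pow_card_pow]

/-- `q` of odd order mod `p` -/
theorem hasReal_odd (hF : Fintype.card F = q ^ 2) {p : ℕ} [hp : Fact p.Prime] (hpF : ¬ p ∣ Nat.card F) {j : ℕ}
    (he : p ∣ q ^ (2 * j + 1) - 1) {x : Cfsg.SU n F q} (hx : x ^ p = 1) (hx1 : x ≠ 1) :
    HasReal p (Cfsg.SU n F q) := by
  obtain ⟨r, f, hr, hrc, hq, hf⟩ := exists_q hF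
  have hq1 : 1 ≤ q ^ (2 * j + 1) := Nat.one_le_iff_ne_zero.2 (pow_ne_zero _ (by rw [hq]; exact pow_ne_zero _ hr.out.ne_zero))
  refine hasReal_of_charpoly hF hpF hx hx1 ?_
  -- `x ^ q ^ (2 j + 1) = x`
  have h1 : x ^ q ^ (2 * j + 1) = x := by
    obtain ⟨c, hc⟩ := he
    have h2 : q ^ (2 * j + 1) = p * c + 1 := by omega
    rw [h2, pow_succ, pow_mul, hx, one_pow, one_mul]
  have h2 : (mat x ^ q).charpoly = (mat x).charpoly := by
    have h3 : (mat x ^ q) ^ (Fintype.card F ^ j) = mat x := by
      rw [← pow_mul, hF, ← pow_mul, ← pow_succ', ← mat_pow, h1]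
    rw [← Cfsg.Agent.H176.SSDet.charpoly_pow_card_pow (mat x ^ q) j, h3]
  let σ : F →+* F := iterateFrobenius F r f
  have hσ : ∀ y, σ y = y ^ q := by
    intro y
    rw [hq]
    rfl
  have hσ' : ∀ y, σ y = y ^ r ^ f := fun y => rfl
  rw [← st_mat_inv hF, Cfsg.Agent.H176.SUDag.st_charpoly σ hσ, ← charpoly_pow_map r f σ hσ', ← hq, h2]

theorem uni_pow {ι : Type*} [Fintype ι] [DecidableEq ι] (hF : Fintype.card F = q ^ 2) {A : Matrix ι ι F}
    (hA : Uni q A) (k : ℕ) : Uni q (A ^ k) := by
  obtain ⟨x, hx, h⟩ := hA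
  refine ⟨x, hx, ?_⟩
  induction k with
  | zero => rw [pow_zero, st_one hF, one_mul, mul_one]
  | succ k ih =>
    rw [pow_succ, st_mul hF]
    calc st q A * st q (A ^ k) * x * (A ^ k * A) = st q A * (st q (A ^ k) * x * A ^ k) * A := by
          simp only [mul_assoc]
      _ = x := by rw [ih, h]

/-- block diagonal elements -/
theorem exists_block (hF : Fintype.card F = q ^ 2) {p : ℕ} [hp : Fact p.Prime] {e k : ℕ} {A : GL (Fin e) F}
    (hA : A ^ p = 1) (hA1 : A ≠ 1) (hU : Uni q (A : Matrix (Fin e) (Fin e) F)) :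
    ∃ x : Cfsg.SU (e + e + k) F q, x ^ p = 1 ∧ x ≠ 1 ∧ (mat x).charpoly = (mat x⁻¹).charpoly := by
  let ε : Fin (e + e + k) ≃ (Fin e ⊕ Fin e) ⊕ Fin k :=
    ((Equiv.sumCongr finSumFinEquiv (Equiv.refl _)).trans finSumFinEquiv).symm
  let B : GL (Fin e) F → Matrix ((Fin e ⊕ Fin e) ⊕ Fin k) ((Fin e ⊕ Fin e) ⊕ Fin k) F := fun A =>
    fromBlocks (fromBlocks (A : Matrix (Fin e) (Fin e) F) 0 0 ((A⁻¹ : GL (Fin e) F) : Matrix (Fin e) (Fin e) F))
      0 0 1
  have hmul : ∀ M N : GL (Fin e) F, M * N = N * M → B M * B N = B (M * N) := by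
    intro M N hMN
    have h1 : (((M * N)⁻¹ : GL (Fin e) F) : Matrix (Fin e) (Fin e) F) =
        ((M⁻¹ : GL (Fin e) F) : Matrix (Fin e) (Fin e) F) * ((N⁻¹ : GL (Fin e) F) : Matrix (Fin e) (Fin e) F) := by
      rw [hMN, _root_.mul_inv_rev]; rfl
    simp only [B, fromBlocks_multiply, h1, GeneralLinearGroup.coe_mul]
    simp only [_root_.MulZeroClass.mul_zero, _root_.add_zero, _root_.Matrix.coe_units_inv, _root_.MulZeroClass.zero_mul, _root_.zero_add, _root_.Matrix.mul_zero, _root_.Matrix.mul_one, _root_.Matrix.zero_mul, _root_.mul_one]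
  have hone : B 1 = 1 := by
    simp only [B, inv_one, Units.val_one, fromBlocks_one]
  have hpow : ∀ j : ℕ, B A ^ j = B (A ^ j) := by
    intro j
    induction j with
    | zero => rw [pow_zero, pow_zero, hone]
    | succ j ih => rw [pow_succ, ih, hmul (A ^ j) A (by rw [← pow_succ, ← pow_succ']), ← pow_succ]
  have hdet : ∀ M : GL (Fin e) F, (B M).det = 1 := by
    intro M
    simp only [B, det_fromBlocks_zero₂₁, det_one, mul_one]
    rw [← det_mul]
    have : (M : Matrix (Fin e) (Fin e) F) * ((M⁻¹ : GL (Fin e) F) : Matrix (Fin e) (Fin e) F) = 1 := by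
      rw [← GeneralLinearGroup.coe_mul, mul_inv_cancel, Units.val_one]
    rw [this, det_one]
  have hchar : (B A).charpoly = (B A⁻¹).charpoly := by
    simp only [B, charpoly_fromBlocks_zero₂₁, inv_inv]
    rw [mul_comm ((A : Matrix (Fin e) (Fin e) F).charpoly)]
  have hq0 : q ≠ 0 := by
    have := Cfsg.Agent.ClassicalGeometry.GUBasic.two_le hF
    omega
  have hAinv : A⁻¹ = A ^ (p - 1) := by
    rw [inv_eq_iff_mul_eq_one, ← pow_succ', Nat.sub_add_cancel hp.out.one_lt.le, hA]
  have hUB : Uni q (B A) := by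
    refine uni_fromBlocks hq0 (uni_fromBlocks hq0 hU ?_) (uni_one hF)
    rw [hAinv, Units.val_pow_eq_pow_val]
    exact uni_pow hF hU _
  obtain ⟨X, hX, hXA⟩ := uni_submatrix ε hUB
  let C : Matrix (Fin (e + e + k)) (Fin (e + e + k)) F := (B A).submatrix ε ε
  obtain ⟨g, y, hy, hyC⟩ := Cfsg.Agent.H127.UnitSinger.exists_elt hF C X hX
    (by rw [det_submatrix_equiv_self, hdet]) hXA
  -- powers
  have hCpow : ∀ j : ℕ, C ^ j = (B (A ^ j)).submatrix ε ε := by
    intro j
    induction j with
    | zero => rw [pow_zero, pow_zero, hone, submatrix_one_equiv]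
    | succ j ih =>
      rw [pow_succ, ih, submatrix_mul_equiv, hmul (A ^ j) A (by rw [← pow_succ, ← pow_succ']), ← pow_succ]
  obtain ⟨u, rfl⟩ := hy
  have hg : mat g = (u : Matrix _ _ F) * C * ((u⁻¹ : (Matrix (Fin (e + e + k)) (Fin (e + e + k)) F)ˣ) : Matrix _ _ F) := by
    rw [hyC, mul_assoc, Units.mul_inv, mul_one]
  have hgpow : ∀ j : ℕ, mat (g ^ j) =
      (u : Matrix _ _ F) * C ^ j * ((u⁻¹ : (Matrix (Fin (e + e + k)) (Fin (e + e + k)) F)ˣ) : Matrix _ _ F) := by
    intro j
    rw [mat_pow, hg, Units.conj_pow]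
  have hcp : ∀ j : ℕ, (mat (g ^ j)).charpoly = (B (A ^ j)).charpoly := by
    intro j
    rw [hgpow, Matrix.coe_units_inv, Matrix.charpoly_units_conj, hCpow]
    exact charpoly_reindex ε.symm _
  refine ⟨g, ?_, ?_, ?_⟩
  · apply mat_inj
    rw [hgpow, hCpow, hA, hone, submatrix_one_equiv, mul_one, Units.mul_inv, mat_one]
  · rintro rfl
    apply hA1
    have h1 : C = 1 := by
      have h2 : (u : Matrix (Fin (e + e + k)) (Fin (e + e + k)) F) * C =
          (u : Matrix (Fin (e + e + k)) (Fin (e + e + k)) F) * 1 := by rw [hyC, mat_one, one_mul, mul_one]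
      exact u.isUnit.mul_left_cancel h2
    have h2 : B A = 1 := by
      have h3 : (B A).submatrix ε ε = (1 : Matrix _ _ F).submatrix ε ε := by rw [submatrix_one_equiv]; exact h1
      exact (reindex ε.symm ε.symm).injective h3
    have h3 : (fromBlocks (A : Matrix (Fin e) (Fin e) F) 0 0 ((A⁻¹ : GL (Fin e) F) : Matrix (Fin e) (Fin e) F)) = 1 := by
      have := congrArg toBlocks₁₁ h2
      rw [← fromBlocks_one] at this
      simpa only [B, toBlocks_fromBlocks₁₁] using this
    have h4 : (A : Matrix (Fin e) (Fin e) F) = 1 := by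
      have := congrArg toBlocks₁₁ h3
      rw [← fromBlocks_one] at this
      simpa only [toBlocks_fromBlocks₁₁] using this
    exact Units.ext h4
  · have hginv : g⁻¹ = g ^ (p - 1) := by
      rw [inv_eq_iff_mul_eq_one, ← pow_succ', Nat.sub_add_cancel hp.out.one_lt.le]
      apply mat_inj
      rw [hgpow, hCpow, hA, hone, submatrix_one_equiv, mul_one, Units.mul_inv, mat_one]
    have h1 := hcp 1
    rw [pow_one, pow_one] at h1
    rw [hginv, hcp, h1, hchar, hAinv]

/-- the natural representation -/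
noncomputable def rho (F : Type*) [Field F] (n q : ℕ) : Cfsg.SU n F q →* Module.End F (Fin n → F) :=
  (RowPSL.rho F n).comp (Cfsg.SU n F q).subtype

omit [Fintype F] in
theorem rho_injective : Function.Injective (rho F n q) :=
  RowPSL.rho_injective.comp (Cfsg.SU n F q).subtype_injective

/-- cross characteristic -/
theorem su_cross (hF : Fintype.card F = q ^ 2) {p : ℕ} [hp : Fact p.Prime] (hp2 : p ≠ 2) (hpF : ¬ p ∣ Nat.card F)
    (hd : p ∣ Nat.card (Cfsg.SU n F q)) : TT p (Cfsg.SU n F q) := by
  obtain ⟨x, hx⟩ := exists_prime_orderOf_dvd_card' p hd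
  have hxp : x ^ p = 1 := by rw [← hx]; exact pow_orderOf_eq_one x
  have hx1 : x ≠ 1 := by
    rintro rfl
    rw [orderOf_one] at hx
    exact hp.out.one_lt.ne hx
  rcases Nat.even_or_odd (orderOf (Nat.card F : ZMod p)) with he | he
  · obtain ⟨k, hk⟩ := he
    exact Or.inl (hasReal_even hF hpF (k := k) (by omega) hxp hx1)
  · set e := orderOf (Nat.card F : ZMod p) with hedef
    have hsq : ((q : ZMod p) ^ e) * ((q : ZMod p) ^ e) = 1 := by
      have h1 : (Nat.card F : ZMod p) ^ e = 1 := pow_orderOf_eq_one _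
      rw [Nat.card_eq_fintype_card, hF, Nat.cast_pow, ← pow_mul, mul_comm, pow_mul, pow_two] at h1
      exact h1
    have hq0 : q ≠ 0 := by
      have := Cfsg.Agent.ClassicalGeometry.GUBasic.two_le hF
      omega
    rcases mul_self_eq_one_iff.1 hsq with h1 | h1
    · obtain ⟨j, hj⟩ := he
      have h2 : p ∣ q ^ (2 * j + 1) - 1 := by
        rw [dvd_pow_sub_one_iff hq0, ← hj]
        exact orderOf_dvd_of_pow_eq_one h1
      exact Or.inl (hasReal_odd hF hpF h2 hxp hx1)
    · have h2 : p ∣ q ^ e + 1 := by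
        rw [← ZMod.natCast_eq_zero_iff, Nat.cast_add, Nat.cast_pow, Nat.cast_one, h1]
        ring
      by_cases hn : 2 * e ≤ n
      · obtain ⟨r, f, hr, hrc, hq, hf⟩ := exists_q hF
        obtain ⟨A, hA, hAo⟩ := exists_singer_unitary hq hF he
        obtain ⟨c, hc⟩ := h2
        have hc0 : c ≠ 0 := by
          rintro rfl
          omega
        obtain ⟨k, rfl⟩ := Nat.exists_eq_add_of_le hn
        rw [two_mul]
        have hAc : (A ^ c) ^ p = 1 := by rw [← pow_mul, mul_comm, ← hc, ← hAo]; exact pow_orderOf_eq_one A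
        have hAc1 : A ^ c ≠ 1 := by
          intro h
          have h3 := orderOf_dvd_of_pow_eq_one h
          rw [hAo, hc] at h3
          have h4 := Nat.le_of_dvd (Nat.pos_of_ne_zero hc0) h3
          have h5 := hp.out.one_lt
          have h6 := Nat.pos_of_ne_zero hc0
          nlinarith only [h4, h5, h6]
        obtain ⟨x, hx, hx1, hxc⟩ := exists_block (k := k) (q := q) hF (A := A ^ c) hAc hAc1 (by
          rw [Units.val_pow_eq_pow_val]
          exact uni_pow hF hA c)
        exact Or.inl (hasReal_of_charpoly hF hpF hx hx1 hxc)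
      · refine Or.inr fun P hP => ?_
        by_contra hnc
        apply hn
        have := two_le_finrank (rho F n q) rho_injective hp2 hpF hP hnc
        rwa [Module.finrank_fintype_fun_eq_card, Fintype.card_fin] at this

end

/-! ### Defining characteristic -/

section Def

variable {F : Type*} [Field F] [Fintype F] {n q : ℕ}

theorem su_def (hF : Fintype.card F = q ^ 2) (hn : 3 ≤ n) {p : ℕ} [hp : Fact p.Prime] [CharP F p] (hp2 : p ≠ 2) :
    HasReal p (Cfsg.SU n F q) := by
  obtain ⟨r, f, hr, hrc, hq, hf⟩ := exists_q hF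
  have hrp : r = p := CharP.eq F hrc ‹CharP F p›
  subst hrp
  have hq0 : q ≠ 0 := by
    have := Cfsg.Agent.ClassicalGeometry.GUBasic.two_le hF
    omega
  have hqo : Odd q := by rw [hq]; exact (hr.out.odd_of_ne_two hp2).pow
  have h2 : (2 : F) ≠ 0 := by
    intro h0
    have h3 : ((2 : ℕ) : F) = 0 := by exact_mod_cast h0
    rw [CharP.cast_eq_zero_iff F r, Nat.prime_dvd_prime_iff_eq hr.out Nat.prime_two] at h3
    exact hp2 h3
  obtain ⟨t, ht⟩ := Cfsg.Agent.H610.TableL3.exists_norm_neg_one hF h2
  obtain ⟨b, hb0, hb⟩ := Cfsg.Agent.H183.Semis.exists_quot hF (-1) (by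
    rw [Even.neg_one_pow (by obtain ⟨k, hk⟩ := hqo; exact ⟨k + 1, by omega⟩)])
  have ht0 : t ≠ 0 := by
    rintro rfl
    rw [zero_pow (by omega)] at ht
    exact one_ne_zero (neg_eq_zero.1 ht.symm)
  have htq : t * t ^ q = -1 := by rw [← pow_succ']; exact ht
  have htqq : (t ^ q) ^ q = t := pow_pow_q hF t
  have hqpos : 0 < q := Nat.pos_of_ne_zero hq0
  let i : Fin n := ⟨0, by omega⟩
  let j : Fin n := ⟨1, by omega⟩
  let l : Fin n := ⟨2, by omega⟩
  have hij : i ≠ j := by simp [i, j]
  have hil : i ≠ l := by simp [i, l]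
  have hjl : j ≠ l := by simp [j, l]
  -- the form
  let τ : Equiv.Perm (Fin n) := Equiv.swap i j
  let J : Matrix (Fin n) (Fin n) F := fun a b => if τ a = b then 1 else 0
  have hJ : ∀ a b, J a b = if τ a = b then 1 else 0 := fun a b => rfl
  have hτ : ∀ a, τ (τ a) = a := fun a => by simp [τ]
  have hJst : st q J = J := by
    ext a b
    rw [st_apply, hJ, hJ]
    by_cases h : τ b = a
    · rw [if_pos h, if_pos (by rw [← h, hτ]), one_pow]
    · rw [if_neg h, if_neg (by rintro rfl; exact h (hτ a)), zero_pow hq0]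
  have hJu : IsUnit J := by
    have : J * J = 1 := by
      ext a b
      rw [Matrix.mul_apply, Finset.sum_eq_single (τ a)]
      · rw [hJ, hJ, if_pos rfl, one_mul, hτ, one_apply]
      · intro c _ hc
        rw [hJ, if_neg (Ne.symm hc), zero_mul]
      · intro h; exact absurd (Finset.mem_univ _) h
    exact ⟨⟨J, J, this, this⟩, rfl⟩
  have hmulJ : ∀ (M : Matrix (Fin n) (Fin n) F) (a c : Fin n), (M * J) a c = M a (τ c) := by
    intro M a c
    rw [Matrix.mul_apply, Finset.sum_eq_single (τ c)]
    · rw [hJ, if_pos (hτ c), mul_one]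
    · intro d _ hd
      rw [hJ, if_neg (by rintro rfl; exact hd (hτ d).symm), mul_zero]
    · intro h; exact absurd (Finset.mem_univ _) h
  obtain ⟨c, -, hcu, hc⟩ := exists_st_mul hF J hJu hJst
  obtain ⟨u, rfl⟩ := hcu
  -- transport
  have key : ∀ M : Matrix (Fin n) (Fin n) F, st q M * J * M = J → M.det = 1 →
      ∃ s : Cfsg.SU n F q, mat s = (u : Matrix _ _ F) * M * ((u⁻¹ : (Matrix (Fin n) (Fin n) F)ˣ) : Matrix _ _ F) := by
    intro M hM hdet
    apply Cfsg.Agent.H176.SUMem.exists_mk hF
    · let U : Matrix (Fin n) (Fin n) F := (u : Matrix (Fin n) (Fin n) F)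
      let V : Matrix (Fin n) (Fin n) F := ((u⁻¹ : (Matrix (Fin n) (Fin n) F)ˣ) : Matrix (Fin n) (Fin n) F)
      have hUV : U * V = 1 := Units.mul_inv u
      have h1 : st q V * st q U = 1 := by
        rw [← st_mul hF, hUV, st_one hF]
      have hc' : st q U * U = J := hc
      change st q (U * M * V) * (U * M * V) = 1
      rw [st_mul hF, st_mul hF]
      calc st q V * (st q M * st q U) * (U * M * V) = st q V * (st q M * (st q U * U) * M) * V := by
            simp only [mul_assoc]
        _ = 1 := by rw [hc', hM, ← hc', ← mul_assoc, h1, one_mul, hUV]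
    · rw [det_mul, det_mul, hdet, mul_one, ← det_mul, Units.mul_inv, det_one]
  have hJmul : ∀ (M : Matrix (Fin n) (Fin n) F) (a c : Fin n), (J * M) a c = M (τ a) c := by
    intro M a c
    rw [Matrix.mul_apply, Finset.sum_eq_single (τ a)]
    · rw [hJ, if_pos rfl, one_mul]
    · intro d _ hd
      rw [hJ, if_neg (Ne.symm hd), zero_mul]
    · intro h; exact absurd (Finset.mem_univ _) h
  have hτi : τ i = j := Equiv.swap_apply_left i j
  have hτj : τ j = i := Equiv.swap_apply_right i j
  have hτl : τ l = l := Equiv.swap_apply_of_ne_of_ne hil.symm hjl.symm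
  have hτa : ∀ a, a ≠ i → a ≠ j → τ a = a := fun a h1 h2 => Equiv.swap_apply_of_ne_of_ne h1 h2
  -- the transvection
  have hstC : ∀ β : F, st q (transvection i j β) = transvection j i (β ^ q) := by
    intro β
    rw [transvection, transvection, st_add hF, st_one hF]
    congr 1
    ext a c
    rw [st_apply, single_apply, single_apply]
    by_cases h : i = c ∧ j = a
    · rw [if_pos h, if_pos ⟨h.2, h.1⟩]
    · rw [if_neg h, if_neg (fun h' => h ⟨h'.2, h'.1⟩), zero_pow hq0]
  have hC : ∀ β : F, β ^ q = -β → st q (transvection i j β) * J * transvection i j β = J := by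
    intro β hβ
    rw [hstC, hβ]
    have h1 : J * single i j β = single j j β := by
      ext a c
      rw [hJmul, single_apply, single_apply]
      have : i = τ a ↔ j = a := by
        constructor
        · intro h; rw [← hτi, h, hτ]
        · intro h; rw [← h, hτj]
      simp only [this]
    have h2 : single j i (-β) * J = single j j (-β) := by
      ext a c
      rw [hmulJ, single_apply, single_apply]
      have : i = τ c ↔ j = c := by
        constructor
        · intro h; rw [← hτi, h, hτ]
        · intro h; rw [← h, hτj]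
      simp only [this]
    rw [transvection, transvection, add_mul, one_mul, h2, mul_add, mul_one, add_mul, h1,
      single_mul_single_of_ne _ _ _ _ hij.symm, add_zero, add_assoc, ← single_add]
    simp
  have hCd : ∀ β : F, (transvection i j β).det = 1 := fun β => det_transvection_of_ne _ _ hij β
  -- the torus element
  let d : Fin n → F := fun a => if a = i then t else if a = j then -t else if a = l then - (t * t)⁻¹ else 1
  have hdi : d i = t := by simp [d]
  have hdj : d j = -t := by simp [d, hij.symm]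
  have hdl : d l = - (t * t)⁻¹ := by simp [d, hil.symm, hjl.symm]
  have hda : ∀ a, a ≠ i → a ≠ j → a ≠ l → d a = 1 := by
    intro a h1 h2 h3
    simp [d, h1, h2, h3]
  have hdd : ∀ a, d a ^ q * d (τ a) = 1 := by
    intro a
    by_cases h1 : a = i
    · rw [h1, hτi, hdi, hdj]
      linear_combination -htq
    by_cases h3 : a = j
    · rw [h3, hτj, hdi, hdj, hqo.neg_pow]
      linear_combination -htq
    rw [hτa a h1 h3]
    by_cases h4 : a = l
    · rw [h4, hdl, hqo.neg_pow, inv_pow, mul_pow]
      have h5 : (t ^ q * t ^ q) * (t * t) = 1 := by linear_combination (t * t ^ q - 1) * htq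
      have h6 : - (t ^ q * t ^ q)⁻¹ * - (t * t)⁻¹ = ((t ^ q * t ^ q) * (t * t))⁻¹ := by
        rw [mul_inv (t ^ q * t ^ q)]; ring
      rw [h6, h5, inv_one]
    · rw [hda a h1 h3 h4, one_pow, one_mul]
  have hD : st q (diagonal d) * J * diagonal d = J := by
    have h1 : st q (diagonal d) = diagonal (fun a => d a ^ q) := by
      ext a c
      rw [st_apply, diagonal_apply, diagonal_apply]
      by_cases h : a = c
      · rw [if_pos h, if_pos h.symm, h]
      · rw [if_neg h, if_neg (Ne.symm h), zero_pow hq0]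
    ext a c
    rw [h1, mul_diagonal, diagonal_mul, hJ]
    by_cases h : τ a = c
    · rw [if_pos h, ← h, mul_one, hdd]
    · rw [if_neg h, mul_zero, zero_mul]
  have hDd : (diagonal d).det = 1 := by
    rw [det_diagonal]
    have h1 : ∏ a, d a = ∏ a ∈ ({i, j, l} : Finset (Fin n)), d a := by
      symm
      apply Finset.prod_subset (Finset.subset_univ _)
      intro a _ ha
      simp only [Finset.mem_insert, Finset.mem_singleton, not_or] at ha
      exact hda a ha.1 ha.2.1 ha.2.2
    rw [h1, Finset.prod_insert (by simp [hij, hil]), Finset.prod_insert (by simp [hjl]), Finset.prod_singleton,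
      hdi, hdj, hdl]
    field_simp
  have hbq : b ^ q = -b := by rw [hb]; ring
  obtain ⟨x, hx⟩ := key _ (hC b hbq) (hCd b)
  obtain ⟨s, hs⟩ := key _ hD hDd
  obtain ⟨y, hy⟩ := key _ (hC (-b) (by rw [hqo.neg_pow, hbq])) (hCd (-b))
  have hui : ((u⁻¹ : (Matrix (Fin n) (Fin n) F)ˣ) : Matrix (Fin n) (Fin n) F) * (u : Matrix (Fin n) (Fin n) F) = 1 :=
    Units.inv_mul u
  have hconj : ∀ M N : Matrix (Fin n) (Fin n) F,
      ((u : Matrix (Fin n) (Fin n) F) * M * ((u⁻¹ : (Matrix (Fin n) (Fin n) F)ˣ) : Matrix (Fin n) (Fin n) F)) *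
      ((u : Matrix (Fin n) (Fin n) F) * N * ((u⁻¹ : (Matrix (Fin n) (Fin n) F)ˣ) : Matrix (Fin n) (Fin n) F)) =
      (u : Matrix (Fin n) (Fin n) F) * (M * N) * ((u⁻¹ : (Matrix (Fin n) (Fin n) F)ˣ) : Matrix (Fin n) (Fin n) F) := by
    intro M N
    calc _ = (u : Matrix (Fin n) (Fin n) F) * M *
          (((u⁻¹ : (Matrix (Fin n) (Fin n) F)ˣ) : Matrix (Fin n) (Fin n) F) * (u : Matrix (Fin n) (Fin n) F)) * N *
          ((u⁻¹ : (Matrix (Fin n) (Fin n) F)ˣ) : Matrix (Fin n) (Fin n) F) := by simp only [mul_assoc]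
      _ = _ := by rw [hui, mul_one]; simp only [mul_assoc]
  have hxy : x⁻¹ = y := by
    rw [inv_eq_iff_mul_eq_one]
    apply mat_inj
    rw [mat_mul, hx, hy, hconj, transvection_mul_transvection_same _ _ hij, add_neg_cancel, transvection_zero,
      mul_one, Units.mul_inv, mat_one]
  refine hasReal_of_conj (x := x) hp.out ?_ ?_ ?_
  · apply mat_inj
    rw [mat_pow, hx, Units.conj_pow, transvection_pow hij, CharP.cast_eq_zero, zero_mul, transvection_zero, mul_one,
      Units.mul_inv, mat_one]
  · rintro rfl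
    apply hb0
    have h1 : (u : Matrix (Fin n) (Fin n) F) * transvection i j b = (u : Matrix (Fin n) (Fin n) F) * 1 := by
      have h3 := congrArg (fun M => M * (u : Matrix (Fin n) (Fin n) F)) hx
      simp only [mat_one, one_mul] at h3
      rw [mul_assoc, hui, mul_one] at h3
      rw [mul_one]
      exact h3.symm
    have h3 := u.isUnit.mul_left_cancel h1
    have h4 := congrFun (congrFun h3 i) j
    rw [transvection, Matrix.add_apply, Matrix.single_apply_same, one_apply_ne hij] at h4
    simpa using h4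
  · rw [isConj_iff]
    refine ⟨s, ?_⟩
    rw [hxy, mul_inv_eq_iff_eq_mul]
    apply mat_inj
    rw [mat_mul, mat_mul, hx, hy, hs, hconj, hconj, transvection_inv b (by rw [hdi, hdj, neg_neg])]

theorem su_real (hF : Fintype.card F = q ^ 2) (hn : 3 ≤ n) {p : ℕ} [hp : Fact p.Prime] (hp2 : p ≠ 2)
    (hd : p ∣ Nat.card (Cfsg.SU n F q)) : TT p (Cfsg.SU n F q) := by
  by_cases hpF : p ∣ Nat.card F
  · have : CharP F p := charP_of_dvd hp.out hpF
    exact Or.inl (su_def hF hn hp2)
  · exact su_cross hF hp2 hpF hd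

end Def

theorem row_psu {S : Type*} [Group S] (h : Cfsg.IsPSU S) {p : ℕ} [hp : Fact p.Prime] (hp2 : p ≠ 2)
    (hd : p ∣ Nat.card S) : TT p S := by
  obtain ⟨F, _, _, n, q, hF, hn, -, ⟨e⟩⟩ := h
  rw [Nat.card_congr e.toEquiv] at hd
  exact TT.congr e (TT.quot hp2 _ le_rfl (su_real hF hn hp2 (dvd_card_of_quot _ hd)))

end Cfsg.Agent.H501.RowPSU
end
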